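import Cfsg.Agent.Lib.J4Schur53.Main
import Cfsg.Agent.Lib.J4M24Bound96.Main

/-!
The order bound for a pair with the seven relations of `M₂₄`.
-/

set_option autoImplicit false

namespace Cfsg.Agent.Lib.J4Schur53

theorem bound24 : Bound24 := fun {G} _ x y h =>
  J4M24Bound96.finite_closure_card_le x y ⟨h.1, h.2.1, h.2.2.1, h.2.2.2.1, h.2.2.2.2.1, h.2.2.2.2.2.1,
    h.2.2.2.2.2.2⟩

end Cfsg.Agent.Lib.J4Schur53
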