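import Cfsg.Agent.Lib.Leech.SimpleTools
import Cfsg.Agent.Lib.Leech.SimplePairs
import Cfsg.Agent.Lib.Golay.Transitive

/-!
Lifting the `276` duad involutions of `2¹¹:M₂₄` to a central extension with kernel of exponent two: the lifts can
be chosen equivariant, commuting, of order two and additive on triangles.
-/

set_option autoImplicit false

namespace Cfsg.Agent.Lib.J4Schur53

open Cfsg Cfsg.Agent.Lib

variable {J : Type*} [Group J]

/-- A family of commuting involutions indexed by the pairs of points, permuted by `M₂₄`, additive on triangles,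
with one eight point relation. -/
structure EData (ι : ↥M24 →* J) where
  /-- The involution of a pair of points. -/
  u : GolayPt → GolayPt → J
  conj : ∀ (g : ↥M24) (a b : GolayPt), ι g * u a b * (ι g)⁻¹ = u ((g : Equiv.Perm GolayPt) a) ((g : Equiv.Perm GolayPt) b)
  symm : ∀ a b, u a b = u b a
  sq : ∀ a b, u a b * u a b = 1
  tri : ∀ a b c, a ≠ b → b ≠ c → a ≠ c → u a b * u b c = u a c
  comm : ∀ a b c d, u a b * u c d = u c d * u a b
  ne : u none (some 0) ≠ 1
  o : Fin 8 → GolayPt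
  o_inj : Function.Injective o
  oct : (List.ofFn fun i : Fin 7 => u (o 0) (o i.succ)).prod = 1

theorem map3 {a b c a' b' c' : GolayPt} (h1 : a ≠ b) (h2 : b ≠ c) (h3 : a ≠ c) (h1' : a' ≠ b') (h2' : b' ≠ c')
    (h3' : a' ≠ c') : ∃ g : ↥M24, (g : Equiv.Perm GolayPt) a = a' ∧ (g : Equiv.Perm GolayPt) b = b' ∧
      (g : Equiv.Perm GolayPt) c = c' := by
  obtain ⟨g, hg, e⟩ := Golay.exists_map_list [a, b, c] [a', b', c'] rfl (by simp) (by simp [h1, h2, h3])
    (by simp [h1', h2', h3'])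
  simp at e
  exact ⟨⟨g, hg⟩, e.1, e.2.1, e.2.2⟩

theorem map2 {a b a' b' : GolayPt} (h1 : a ≠ b) (h1' : a' ≠ b') :
    ∃ g : ↥M24, (g : Equiv.Perm GolayPt) a = a' ∧ (g : Equiv.Perm GolayPt) b = b' := by
  obtain ⟨g, hg, e⟩ := Golay.exists_map_list [a, b] [a', b'] rfl (by simp) (by simp [h1]) (by simp [h1'])
  simp at e
  exact ⟨⟨g, hg⟩, e.1, e.2⟩

theorem exists_third (a b : GolayPt) : ∃ c : GolayPt, a ≠ c ∧ b ≠ c := by
  have h : (({a, b} : Finset GolayPt)ᶜ).Nonempty := by
    rw [← Finset.card_pos, Finset.card_compl]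
    have : ({a, b} : Finset GolayPt).card ≤ 2 := Finset.card_le_two
    simp only [Fintype.card_option, ZMod.card]
    omega
  obtain ⟨c, hc⟩ := h
  simp at hc
  exact ⟨c, fun e => hc.1 e.symm, fun e => hc.2 e.symm⟩

variable {ι : ↥M24 →* J} (D : EData ι) {Γ : Type*} [Group Γ]

theorem exists_lift_pairs (σ : Γ →* J) (hs : Function.Surjective σ) (hc : σ.ker ≤ Subgroup.center Γ)
    (h2 : ∀ z ∈ σ.ker, z * z = 1) (φ : ↥M24 →* Γ) (hφ : ∀ g, σ (φ g) = ι g) :
    ∃ L : GolayPt → GolayPt → Γ,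
      (∀ a b, a ≠ b → σ (L a b) = D.u a b) ∧
      (∀ (g : ↥M24) a b, a ≠ b →
        φ g * L a b * (φ g)⁻¹ = L ((g : Equiv.Perm GolayPt) a) ((g : Equiv.Perm GolayPt) b)) ∧
      (∀ a b, a ≠ b → L a b = L b a) ∧ (∀ a b, a ≠ b → L a b * L a b = 1) ∧
      (∀ a b c, a ≠ b → b ≠ c → a ≠ c → L a b * L b c = L a c) ∧
      (∀ a b c d, a ≠ b → c ≠ d → L a b * L c d = L c d * L a b) := by
  have hne : (none : GolayPt) ≠ some 0 := by simp
  have hcen : ∀ {z : Γ}, z ∈ σ.ker → ∀ g : Γ, g * z = z * g := fun hz g => Subgroup.mem_center_iff.1 (hc hz) g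
  obtain ⟨U, hU⟩ := hs (D.u none (some 0))
  -- an element fixing both base points fixes the lift
  have hfix : ∀ x : ↥M24, (x : Equiv.Perm GolayPt) none = none → (x : Equiv.Perm GolayPt) (some 0) = some 0 →
      φ x * U * (φ x)⁻¹ = U := by
    have hle : ∀ x ∈ Spor.M22, x ∈ M24 ∧ x none = none ∧ x (some 0) = some 0 := fun x hx =>
      ⟨(Subgroup.mem_inf.1 (Subgroup.mem_inf.1 hx).1).1, (Subgroup.mem_inf.1 (Subgroup.mem_inf.1 hx).1).2,
        (Subgroup.mem_inf.1 hx).2⟩
    have hmem : ∀ x : ↥Spor.M22, φ ⟨x, (hle _ x.2).1⟩ * U * (φ ⟨x, (hle _ x.2).1⟩)⁻¹ * U⁻¹ ∈ σ.ker := by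
      intro x
      rw [MonoidHom.mem_ker, map_mul, map_mul, map_mul, map_inv, map_inv, hφ, hU, D.conj]
      show D.u ((x : Equiv.Perm GolayPt) none) ((x : Equiv.Perm GolayPt) (some 0)) * _ = 1
      rw [(hle _ x.2).2.1, (hle _ x.2).2.2, mul_inv_cancel]
    let χ : ↥Spor.M22 →* σ.ker := MonoidHom.mk' (fun x => ⟨_, hmem x⟩) (fun x y => by
      refine Subtype.ext ?_
      set a := φ ⟨x, (hle _ x.2).1⟩
      set b := φ ⟨y, (hle _ y.2).1⟩
      have e : φ ⟨(x * y : ↥Spor.M22), (hle _ (x * y).2).1⟩ = a * b := by rw [← map_mul]; rfl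
      show φ ⟨(x * y : ↥Spor.M22), _⟩ * U * (φ ⟨(x * y : ↥Spor.M22), _⟩)⁻¹ * U⁻¹ =
        a * U * a⁻¹ * U⁻¹ * (b * U * b⁻¹ * U⁻¹)
      rw [e]
      have hb : b * U * b⁻¹ * U⁻¹ ∈ σ.ker := hmem y
      calc a * b * U * (a * b)⁻¹ * U⁻¹ = a * ((b * U * b⁻¹ * U⁻¹) * U) * a⁻¹ * U⁻¹ := by group
        _ = (a * (b * U * b⁻¹ * U⁻¹)) * (U * a⁻¹ * U⁻¹) := by group
        _ = ((b * U * b⁻¹ * U⁻¹) * a) * (U * a⁻¹ * U⁻¹) := by rw [hcen hb a]
        _ = (b * U * b⁻¹ * U⁻¹) * (a * U * a⁻¹ * U⁻¹) := by group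
        _ = _ := (hcen hb _).symm)
    have : IsSimpleGroup ↥Spor.M22 := Leech.isSimpleGroup_M22
    have hχ : χ.ker = ⊤ := by
      refine (χ.normal_ker.eq_bot_or_eq_top).resolve_left fun hbot => ?_
      have hinj := (MonoidHom.ker_eq_bot_iff χ).1 hbot
      have hcomm : ∀ a b : ↥Spor.M22, a * b = b * a := fun a b => hinj (by
        rw [map_mul, map_mul]
        exact Subtype.ext (hcen (χ b).2 _))
      have hp : (Nat.card ↥Spor.M22).Prime := by
        letI : CommGroup ↥Spor.M22 := { (inferInstance : Group ↥Spor.M22) with mul_comm := hcomm }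
        exact IsSimpleGroup.prime_card
      rw [Leech.card_M22] at hp
      exact absurd hp (by norm_num)
    intro x hx hx'
    have hx22 : (x : Equiv.Perm GolayPt) ∈ Spor.M22 := Subgroup.mem_inf.2 ⟨Subgroup.mem_inf.2 ⟨x.2, hx⟩, hx'⟩
    have h1 : χ ⟨x, hx22⟩ = 1 := MonoidHom.mem_ker.1 (hχ ▸ Subgroup.mem_top _)
    have h1' := congrArg Subtype.val h1
    exact mul_inv_eq_one.1 h1'
  -- lifts of the ordered pairs
  choose gp hgp using fun (a b : GolayPt) (h : a ≠ b) => map2 hne h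
  let L : GolayPt → GolayPt → Γ := fun a b => if h : a ≠ b then φ (gp a b h) * U * (φ (gp a b h))⁻¹ else 1
  have hL : ∀ g : ↥M24,
      L ((g : Equiv.Perm GolayPt) none) ((g : Equiv.Perm GolayPt) (some 0)) = φ g * U * (φ g)⁻¹ := by
    intro g
    have h : (g : Equiv.Perm GolayPt) none ≠ (g : Equiv.Perm GolayPt) (some 0) :=
      fun e => hne ((g : Equiv.Perm GolayPt).injective e)
    set k := gp _ _ h
    have hk := hgp _ _ h
    have h1 := hfix (k⁻¹ * g) (by simp [Equiv.Perm.mul_apply, Equiv.Perm.inv_def, Equiv.symm_apply_eq, hk.1, k])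
      (by simp [Equiv.Perm.mul_apply, Equiv.Perm.inv_def, Equiv.symm_apply_eq, hk.2, k])
    show dite _ _ _ = _
    rw [dif_pos h]
    show φ k * U * (φ k)⁻¹ = _
    conv_lhs => rw [← h1]
    rw [map_mul, map_inv]; group
  have hequ : ∀ (g : ↥M24) a b, a ≠ b →
      φ g * L a b * (φ g)⁻¹ = L ((g : Equiv.Perm GolayPt) a) ((g : Equiv.Perm GolayPt) b) := by
    intro g a b h
    have h1 := hL (g * gp a b h)
    have h0 := hL (gp a b h)
    rw [(hgp a b h).1, (hgp a b h).2] at h0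
    simp only [Subgroup.coe_mul, Equiv.Perm.mul_apply, (hgp a b h).1, (hgp a b h).2] at h1
    rw [h1, h0, map_mul]; group
  have hσ : ∀ a b, a ≠ b → σ (L a b) = D.u a b := by
    intro a b h
    have h0 := hL (gp a b h)
    rw [(hgp a b h).1, (hgp a b h).2] at h0
    rw [h0, map_mul, map_mul, map_inv, hφ, hU, D.conj, (hgp a b h).1, (hgp a b h).2]
  -- constancy
  have hconj : ∀ (g : ↥M24) {z : Γ}, z ∈ σ.ker → φ g * z * (φ g)⁻¹ = z := fun g z hz => by
    rw [hcen hz, mul_inv_cancel_right]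
  obtain ⟨ε, hεk, hε⟩ : ∃ ε ∈ σ.ker, ∀ a b, a ≠ b → L b a = ε * L a b := by
    refine ⟨L (some 0) none * (L none (some 0))⁻¹, ?_, fun a b h => ?_⟩
    · rw [MonoidHom.mem_ker, map_mul, map_inv, hσ _ _ hne, hσ _ _ (Ne.symm hne), D.symm (some 0), mul_inv_cancel]
    · obtain ⟨g, ga, gb⟩ := map2 hne h
      have hk : L (some 0) none * (L none (some 0))⁻¹ ∈ σ.ker := by
        rw [MonoidHom.mem_ker, map_mul, map_inv, hσ _ _ hne, hσ _ _ (Ne.symm hne), D.symm (some 0), mul_inv_cancel]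
      conv_rhs => rw [← hconj g hk]
      have e1 := hequ g _ _ hne
      have e2 := hequ g _ _ (Ne.symm hne)
      rw [ga, gb] at e1 e2
      rw [← e1, ← e2]; group
  obtain ⟨c₀, h0c, hzc⟩ := exists_third (none : GolayPt) (some 0)
  obtain ⟨k, hkk, hk⟩ : ∃ k ∈ σ.ker, ∀ a b c, a ≠ b → b ≠ c → a ≠ c → L a b * L b c * L c a = k := by
    have hk0 : ∀ a b c, a ≠ b → b ≠ c → a ≠ c → L a b * L b c * L c a ∈ σ.ker := by
      intro a b c h1 h2' h3
      rw [MonoidHom.mem_ker, map_mul, map_mul, hσ _ _ h1, hσ _ _ h2', hσ _ _ (Ne.symm h3), D.tri a b c h1 h2' h3,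
        D.symm c a, D.sq]
    refine ⟨_, hk0 none (some 0) c₀ hne hzc h0c, fun a b c h1 h2' h3 => ?_⟩
    obtain ⟨g, ga, gb, gc⟩ := map3 hne hzc h0c h1 h2' h3
    have e1 := hequ g _ _ hne
    have e2 := hequ g _ _ hzc
    have e3 := hequ g _ _ (Ne.symm h0c)
    rw [ga, gb] at e1; rw [gb, gc] at e2; rw [gc, ga] at e3
    rw [← hconj g (hk0 none (some 0) c₀ hne hzc h0c), ← e1, ← e2, ← e3]; group
  obtain ⟨κ, hκk, hκ⟩ : ∃ κ ∈ σ.ker, ∀ a b, a ≠ b → L a b * L a b = κ := by
    have hk0 : L none (some 0) * L none (some 0) ∈ σ.ker := by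
      rw [MonoidHom.mem_ker, map_mul, hσ _ _ hne, D.sq]
    refine ⟨_, hk0, fun a b h => ?_⟩
    obtain ⟨g, ga, gb⟩ := map2 hne h
    have e1 := hequ g _ _ hne
    rw [ga, gb] at e1
    rw [← hconj g hk0, ← e1]; group
  have hκ2 : κ * κ = 1 := h2 κ hκk
  have hadj : ∀ a b c, a ≠ b → b ≠ c → a ≠ c → L a b * L b c = κ * (L b c * L a b) := by
    intro a b c h1 h2' h3
    set x := L a b
    set y := L b c
    set w := L c a
    have e1 : x * y = k * w⁻¹ := eq_mul_inv_iff_mul_eq.2 (hk a b c h1 h2' h3)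
    have e2 : (x * y) * (x * y) = κ := by
      rw [e1]
      calc k * w⁻¹ * (k * w⁻¹) = k * k * (w * w)⁻¹ := by
            rw [mul_assoc k w⁻¹, ← mul_assoc w⁻¹ k, hcen hkk w⁻¹]; group
        _ = κ := by rw [h2 k hkk, hκ c a h3.symm, one_mul, inv_eq_iff_mul_eq_one.2 hκ2]
    have ex : x * x = κ := hκ a b h1
    have ey : y * y = κ := hκ b c h2'
    calc x * y = (x * y * (x * y)) * y⁻¹ * x⁻¹ := by group
      _ = κ * y⁻¹ * x⁻¹ := by rw [e2]
      _ = κ * ((y * y)⁻¹ * y) * ((x * x)⁻¹ * x) := by group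
      _ = κ * (κ * y) * (κ * x) := by rw [ex, ey, inv_eq_iff_mul_eq_one.2 hκ2]
      _ = κ * κ * (y * κ) * x := by group
      _ = κ * (κ * κ) * (y * x) := by rw [hcen hκk y]; group
      _ = κ * (y * x) := by rw [hκ2, mul_one]
  have hadj' : ∀ a b c, a ≠ b → b ≠ c → a ≠ c → L a b * L a c = κ * (L a c * L a b) := by
    intro a b c h1 h2' h3
    have e := hadj b a c h1.symm h3 h2'
    rw [hε a b h1, mul_assoc ε, ← mul_assoc (L a c) ε, hcen hεk (L a c), mul_assoc ε, ← mul_assoc κ ε,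
      hcen hεk κ, mul_assoc ε] at e
    exact mul_left_cancel e
  have hdis : ∀ a b c d, a ≠ b → c ≠ d → a ≠ c → a ≠ d → b ≠ c → b ≠ d → L a b * L c d = L c d * L a b := by
    intro a b c d hab hcd hac had hbc hbd
    have hz : ∃ z ∈ σ.ker, L c d = z * (L a c * L a d) := by
      refine ⟨L c d * (L a c * L a d)⁻¹, ?_, by group⟩
      rw [MonoidHom.mem_ker, map_mul, map_inv, map_mul, hσ _ _ hcd, hσ _ _ hac, hσ _ _ had, D.symm a c,
        D.tri c a d hac.symm had hcd, mul_inv_cancel]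
    obtain ⟨z, hz, e⟩ := hz
    rw [e, ← mul_assoc, hcen hz (L a b), mul_assoc z, mul_assoc z]
    congr 1
    calc L a b * (L a c * L a d) = κ * L a c * (L a b * L a d) := by
          rw [← mul_assoc, hadj' a b c hab hbc hac]; group
      _ = κ * (L a c * κ) * (L a d * L a b) := by rw [hadj' a b d hab hbd had]; group
      _ = κ * κ * (L a c * (L a d * L a b)) := by rw [hcen hκk (L a c)]; group
      _ = _ := by rw [hκ2, one_mul]; group
  have hκ1 : κ = 1 := by
    set o := D.o with ho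
    obtain ⟨b, hb⟩ : ∃ b : GolayPt, b ∉ Finset.image o Finset.univ := by
      by_contra hall
      push Not at hall
      have h8 : (Finset.univ : Finset GolayPt).card ≤ (Finset.image o Finset.univ).card :=
        Finset.card_le_card fun x _ => hall x
      rw [Finset.card_image_of_injective _ D.o_inj] at h8
      simp [Fintype.card_option] at h8
    have hob : ∀ i, o i ≠ b := fun i e => hb (e ▸ Finset.mem_image_of_mem _ (Finset.mem_univ i))
    have hne' : ∀ i j : Fin 8, i ≠ j → o i ≠ o j := fun i j h e => h (D.o_inj e)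
    set X := L (o 1) b
    set R := (List.ofFn fun i : Fin 6 => L (o 0) (o i.succ.succ)).prod with hR
    have h01 : o 0 ≠ o 1 := hne' _ _ (by decide)
    have hRX : Commute X R := by
      refine Commute.list_prod_right _ _ fun y hy => ?_
      obtain ⟨i, rfl⟩ := List.mem_ofFn.1 hy
      have h0 : o 0 ≠ o i.succ.succ := hne' _ _ (Fin.succ_ne_zero _).symm
      refine hdis _ _ _ _ (hob 1) h0 h01.symm (hne' _ _ ?_) (hob 0).symm (hob _).symm
      intro e
      have := congrArg Fin.val e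
      simp at this
    have hP : L (o 0) (o 1) * R ∈ σ.ker := by
      have eR : σ R = (List.ofFn fun i : Fin 6 => D.u (o 0) (o i.succ.succ)).prod := by
        rw [hR, map_list_prod, List.map_ofFn]
        exact congrArg List.prod (congrArg List.ofFn (funext fun i => hσ _ _ (hne' _ _ (Fin.succ_ne_zero _).symm)))
      rw [MonoidHom.mem_ker, map_mul, hσ _ _ h01, eR]
      have e := D.oct
      rw [List.ofFn_succ, List.prod_cons] at e
      exact e
    have e1 : X * L (o 0) (o 1) = κ * (L (o 0) (o 1) * X) := by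
      have e0 := hadj' (o 1) b (o 0) (hob 1) (hob 0).symm h01.symm
      rw [hε (o 0) (o 1) h01, ← mul_assoc X ε, hcen hεk X, mul_assoc ε, mul_assoc ε, ← mul_assoc κ ε,
        hcen hεk κ, mul_assoc ε] at e0
      exact mul_left_cancel e0
    have e2 : X * (L (o 0) (o 1) * R) = κ * (L (o 0) (o 1) * R * X) := by
      calc X * (L (o 0) (o 1) * R) = κ * (L (o 0) (o 1) * (X * R)) := by rw [← mul_assoc, e1]; group
        _ = _ := by rw [hRX.eq]; group
    rw [hcen hP X] at e2
    exact (mul_eq_right.1 e2.symm)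
  subst hκ1
  have hsymm : ∀ a b, a ≠ b → L a b = L b a := by
    have h1 : ε = 1 := by
      obtain ⟨a, b, c, hab, hbc, hac⟩ : ∃ a b c : GolayPt, a ≠ b ∧ b ≠ c ∧ a ≠ c := ⟨_, _, _, hne, hzc, h0c⟩
      have k1 := hk a b c hab hbc hac
      have k2 := hk b a c hab.symm hac hbc
      rw [hε a b hab, hε c a hac.symm, hε b c hbc] at k2
      have e : L c a * L b c = L b c * L c a := by
        have e0 := hadj b c a hbc hac.symm hab.symm
        rw [one_mul] at e0
        exact e0.symm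
      have k3 : ε * ε * ε * (L a b * L c a * L b c) = k := by
        rw [← k2]
        calc ε * ε * ε * (L a b * L c a * L b c) = ε * ε * (ε * L a b) * (L c a * L b c) := by group
          _ = ε * ε * (L a b * ε) * (L c a * L b c) := by rw [hcen hεk (L a b)]
          _ = ε * (ε * L a b) * ((ε * L c a) * L b c) := by group
          _ = ε * (L a b * ε) * ((L c a * ε) * L b c) := by rw [hcen hεk (L a b), hcen hεk (L c a)]
          _ = ε * L a b * (ε * L c a) * (ε * L b c) := by group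
      rw [mul_assoc (L a b), e, ← mul_assoc (L a b), k1, h2 ε hεk, one_mul] at k3
      exact mul_eq_right.1 k3
    intro a b h
    rw [hε a b h, h1, one_mul]
  have hinv : ∀ a b, a ≠ b → (L a b)⁻¹ = L a b := fun a b h => inv_eq_of_mul_eq_one_left (hκ a b h)
  have hcm : ∀ a b c d, a ≠ b → c ≠ d → L a b * L c d = L c d * L a b := by
    intro a b c d hab hcd
    have adj : ∀ x y z, x ≠ y → x ≠ z → L x y * L x z = L x z * L x y := fun x y z hxy hxz => by
      by_cases hyz : y = z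
      · rw [hyz]
      · simpa using hadj' x y z hxy hyz hxz
    by_cases h1 : a = c
    · subst h1; exact adj a b d hab hcd
    by_cases h2' : a = d
    · subst h2'; rw [hsymm c a hcd]; exact adj a b c hab hcd.symm
    by_cases h3 : b = c
    · subst h3; rw [hsymm a b hab]; exact adj b a d hab.symm hcd
    by_cases h4 : b = d
    · subst h4; rw [hsymm a b hab, hsymm c b hcd]; exact adj b a c hab.symm hcd.symm
    exact hdis a b c d hab hcd h1 h2' h3 h4
  -- renormalise on triangles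
  have hck : ∀ x y : Γ, (k * x) * (k * y) = x * y := fun x y => by
    rw [mul_assoc k, ← mul_assoc x, hcen hkk x, mul_assoc k, ← mul_assoc k k, h2 k hkk, one_mul]
  refine ⟨fun a b => k * L a b, fun a b h => ?_, fun g a b h => ?_, fun a b h => ?_, fun a b h => ?_,
    fun a b c h1 h2' h3 => ?_, fun a b c d h1 h2' => ?_⟩
  · rw [map_mul, MonoidHom.mem_ker.1 hkk, one_mul, hσ a b h]
  · show φ g * (k * L a b) * (φ g)⁻¹ = k * _
    rw [← hequ g a b h, ← mul_assoc, hcen hkk]; group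
  · show k * L a b = k * L b a
    rw [hsymm a b h]
  · show k * L a b * (k * L a b) = 1
    rw [hck, hκ a b h]
  · show k * L a b * (k * L b c) = k * L a c
    rw [hck, ← hk a b c h1 h2' h3, hsymm c a h3.symm]
    calc L a b * L b c = L a b * L b c * (L a c * L a c) := by rw [hκ a c h3, mul_one]
      _ = _ := by group
  · show k * L a b * (k * L c d) = k * L c d * (k * L a b)
    rw [hck, hck, hcm a b c d h1 h2']

end Cfsg.Agent.Lib.J4Schur53
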