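import Cfsg.Agent.Lib.J4Schur53.Gens
import Cfsg.Agent.Lib.J4Schur53.Lift

/-!
The duad involutions of `2¹¹:M₂₄` from eleven commuting involutions with the action equations of the two generators.
-/

set_option autoImplicit false
set_option maxRecDepth 8000

namespace Cfsg.Agent.Lib.J4Schur53

open Cfsg Cfsg.Agent.Lib

/-- The coordinates of the class of the duad of a point and the base point. -/
def coordList : List ℕ := [1024, 591, 512, 128, 986, 4, 1183, 1763, 881, 16, 256, 64, 246, 32, 1319, 2, 1972, 493,
  1929, 8, 1372, 1594, 0, 1]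

/-- The images of the basis under the involution. -/
def rowsX : List ℕ := [12, 516, 4, 5, 1179, 1767, 587, 990, 1933, 6, 1368]

/-- The images of the basis under the element of order three. -/
def rowsY : List ℕ := [1394, 495, 489, 485, 509, 567, 461, 492, 1226, 1201, 1517]

/-- The coordinates of a point. -/
def coord (p : GolayPt) : ℕ := coordList.getD (Golay.idx p).val 0

/-- The linear map with the given rows. -/
def lin (R : List ℕ) (v : ℕ) : ℕ :=
  (((List.finRange 11).filter fun i : Fin 11 => v.testBit i).map fun i => R.getD i.val 0).foldr (· ^^^ ·) 0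

/-- The product of the `e i` over the bits of `v`. -/
def maskProd {M : Type*} [Monoid M] (e : Fin 11 → M) (v : ℕ) : M :=
  (((List.finRange 11).filter fun i : Fin 11 => v.testBit i).map e).prod

section

variable {G : Type*} [Group G] {e : Fin 11 → G}

theorem maskProd_zero : maskProd e 0 = 1 := by simp [maskProd]

theorem maskProd_single (i : Fin 11) : maskProd e (2 ^ (i : ℕ)) = e i := by
  have h : ((List.finRange 11).filter fun j : Fin 11 => (2 ^ (i : ℕ)).testBit j) = [i] := by
    revert i; decide +kernel
  simp [maskProd, h]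

theorem maskProd_xor (hsq : ∀ i, e i * e i = 1) (hcm : ∀ i j, e i * e j = e j * e i) (a b : ℕ) :
    maskProd e (a ^^^ b) = maskProd e a * maskProd e b := by
  let A : Subgroup G := Subgroup.closure (Set.range e)
  have hle : ∀ x ∈ A, ∀ y ∈ A, x * y = y * x := by
    intro x hx y hy
    induction hx using Subgroup.closure_induction with
    | mem a ha =>
      obtain ⟨i, rfl⟩ := ha
      induction hy using Subgroup.closure_induction with
      | mem c hc => obtain ⟨j, rfl⟩ := hc; exact hcm i j
      | one => simp
      | mul c d _ _ h1 h2 =>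
        calc e i * (c * d) = c * e i * d := by rw [← mul_assoc, h1]
          _ = _ := by rw [mul_assoc, h2, mul_assoc]
      | inv c _ h => exact (Commute.inv_right h).eq
    | one => simp
    | mul c d _ _ h1 h2 =>
      calc c * d * y = c * y * d := by rw [mul_assoc, h2, ← mul_assoc]
        _ = _ := by rw [h1, mul_assoc]
    | inv c _ h => exact (Commute.inv_left h).eq
  letI : CommGroup A :=
    { (inferInstance : Group A) with mul_comm := fun x y => Subtype.ext (hle _ x.2 _ y.2) }
  let eA : Fin 11 → A := fun i => ⟨e i, Subgroup.subset_closure ⟨i, rfl⟩⟩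
  have hm : ∀ v, maskProd e v = ((∏ i : Fin 11, if v.testBit i then eA i else 1 : A) : G) := by
    intro v
    have h1 : maskProd e v = A.subtype (maskProd eA v) := by
      rw [maskProd, maskProd, map_list_prod, List.map_map]; rfl
    rw [h1, ← Finset.prod_filter, maskProd, ← List.prod_toFinset _ ((List.nodup_finRange 11).filter _)]
    refine congrArg Subtype.val (Finset.prod_congr ?_ fun _ _ => rfl)
    ext; simp
  rw [hm, hm, hm, ← Subgroup.coe_mul, ← Finset.prod_mul_distrib]
  refine congrArg Subtype.val (Finset.prod_congr rfl fun i _ => ?_)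
  rw [Nat.testBit_xor]
  cases a.testBit i <;> cases b.testBit i <;> simp
  exact (Subtype.ext (hsq i)).symm

theorem maskProd_foldr (hsq : ∀ i, e i * e i = 1) (hcm : ∀ i j, e i * e j = e j * e i) :
    ∀ l : List ℕ, maskProd e (l.foldr (· ^^^ ·) 0) = (l.map (maskProd e)).prod
  | [] => maskProd_zero
  | a :: l => by
    rw [List.foldr_cons, maskProd_xor hsq hcm, List.map_cons, List.prod_cons, maskProd_foldr hsq hcm l]

/-- A conjugation given on the basis is given everywhere. -/
theorem conj_maskProd (hsq : ∀ i, e i * e i = 1) (hcm : ∀ i j, e i * e j = e j * e i) {g : G} {R : List ℕ}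
    (h : ∀ i : Fin 11, g⁻¹ * e i * g = maskProd e (R.getD i.val 0)) (v : ℕ) :
    g⁻¹ * maskProd e v * g = maskProd e (lin R v) := by
  rw [lin, maskProd_foldr hsq hcm, maskProd,
    show ∀ z : G, g⁻¹ * z * g = MulAut.conj g⁻¹ z from fun z => by simp,
    map_list_prod, List.map_map, List.map_map]
  refine congrArg List.prod (List.map_congr_left fun i _ => ?_)
  simpa using h i

end

theorem lin_X : ∀ a b : GolayPt,
    lin rowsX (coord a ^^^ coord b) = coord ((X : Equiv.Perm GolayPt) a) ^^^ coord ((X : Equiv.Perm GolayPt) b) := by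
  decide +kernel

theorem lin_Y : ∀ a b : GolayPt,
    lin rowsY (coord ((Y : Equiv.Perm GolayPt) a) ^^^ coord ((Y : Equiv.Perm GolayPt) b)) =
      coord a ^^^ coord b := by
  decide +kernel

/-- The eight points of an octad. -/
def octadPts : Fin 8 → GolayPt := fun i => Golay.pt (Fin.ofNat 24 ([0, 4, 13, 14, 18, 19, 20, 22].getD i.val 0))

theorem octadPts_xor :
    ((List.ofFn fun i : Fin 7 => coord (octadPts 0) ^^^ coord (octadPts i.succ)).foldr (· ^^^ ·) 0) = 0 := by
  decide +kernel

theorem coord_basis : ∀ i : Fin 11, ∃ a : GolayPt, a ≠ Golay.pt 22 ∧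
    coord (Golay.pt 22) ^^^ coord a = 2 ^ (i : ℕ) := by
  decide +kernel

/-- The duad involutions. -/
theorem exists_eData {G : Type*} [Group G] (ι : ↥M24 →* G) {e : Fin 11 → G} (hsq : ∀ i, e i * e i = 1)
    (hcm : ∀ i j, e i * e j = e j * e i)
    (hx : ∀ i : Fin 11, (ι X)⁻¹ * e i * ι X = maskProd e (rowsX.getD i.val 0))
    (hy : ∀ i : Fin 11, (ι Y)⁻¹ * e i * ι Y = maskProd e (rowsY.getD i.val 0))
    (hu : maskProd e 934 ≠ 1) : Nonempty (EData ι) := by
  let u : GolayPt → GolayPt → G := fun a b => maskProd e (coord a ^^^ coord b)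
  let S : Subgroup ↥M24 :=
    { carrier := {g | ∀ a b, ι g * u a b * (ι g)⁻¹ = u ((g : Equiv.Perm GolayPt) a) ((g : Equiv.Perm GolayPt) b)}
      one_mem' := fun a b => by simp
      mul_mem' := fun {g h} hg hh a b => by
        rw [map_mul, Subgroup.coe_mul, Equiv.Perm.mul_apply, Equiv.Perm.mul_apply, ← hg, ← hh]; group
      inv_mem' := fun {g} hg a b => by
        have h1 := hg ((g : Equiv.Perm GolayPt).symm a) ((g : Equiv.Perm GolayPt).symm b)
        rw [Equiv.apply_symm_apply, Equiv.apply_symm_apply] at h1
        rw [← h1, map_inv, Subgroup.coe_inv, Equiv.Perm.inv_def]; group }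
  have hS : S = ⊤ := by
    rw [eq_top_iff, ← closure_XY, Subgroup.closure_le]
    rintro g (rfl | rfl)
    · intro a b
      have hXi : (ι X)⁻¹ = ι X :=
        inv_eq_of_mul_eq_one_left (by rw [← map_mul, ← pow_two, rels.1, map_one])
      show _ = maskProd e _
      rw [← lin_X, ← conj_maskProd hsq hcm hx, hXi]
    · intro a b
      show _ = maskProd e _
      have h1 := conj_maskProd hsq hcm hy
        (coord ((Y : Equiv.Perm GolayPt) a) ^^^ coord ((Y : Equiv.Perm GolayPt) b))
      rw [lin_Y] at h1
      show ι Y * maskProd e _ * _ = _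
      rw [← h1]; group
  have hconj : ∀ (g : ↥M24) (a b : GolayPt),
      ι g * u a b * (ι g)⁻¹ = u ((g : Equiv.Perm GolayPt) a) ((g : Equiv.Perm GolayPt) b) := fun g =>
    (show g ∈ S from hS ▸ Subgroup.mem_top g)
  refine ⟨⟨u, hconj, fun a b => ?_, fun a b => ?_, fun a b c _ _ _ => ?_, fun a b c d => ?_, fun h => ?_,
    octadPts, by decide +kernel, ?_⟩⟩
  · show maskProd e _ = maskProd e _
    rw [Nat.xor_comm]
  · show maskProd e _ * maskProd e _ = 1
    rw [← maskProd_xor hsq hcm, Nat.xor_self, maskProd_zero]
  · show maskProd e _ * maskProd e _ = maskProd e _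
    rw [← maskProd_xor hsq hcm, Nat.xor_assoc, ← Nat.xor_assoc (coord b) (coord b), Nat.xor_self, Nat.zero_xor]
  · show maskProd e _ * maskProd e _ = maskProd e _ * maskProd e _
    rw [← maskProd_xor hsq hcm, ← maskProd_xor hsq hcm, Nat.xor_comm]
  · refine hu ?_
    have he : ∀ i, e i = 1 := by
      intro i
      obtain ⟨a, ha, hc⟩ := coord_basis i
      obtain ⟨g, g1, g2⟩ := map2 (show (none : GolayPt) ≠ some 0 by simp) ha.symm
      have h2 := hconj g none (some 0)
      rw [h, mul_one, mul_inv_cancel, g1, g2] at h2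
      rw [← maskProd_single (e := e) i, ← hc]
      exact h2.symm
    exact List.prod_eq_one fun z hz => by
      obtain ⟨i, _, rfl⟩ := List.mem_map.1 hz
      exact he i
  · rw [← maskProd_zero (e := e), ← octadPts_xor, maskProd_foldr hsq hcm, List.map_ofFn]
    rfl

end Cfsg.Agent.Lib.J4Schur53
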