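import Cfsg.Agent.Lib.Golay.M24

/-!
The pair of generators of `M₂₄` behind the symmetric presentation of the fourth Janko group, with the elements
used by the relator lifting.
-/

set_option autoImplicit false
set_option maxRecDepth 8000

namespace Cfsg.Agent.Lib.J4Schur53

open Cfsg Cfsg.Agent.Lib

/-- The permutation with the given list of images of the numbered points. -/
def listPerm (l m : List ℕ) (h₁ : ∀ p : GolayPt, Golay.pt (Fin.ofNat 24 (m.getD (Golay.idx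
    (Golay.pt (Fin.ofNat 24 (l.getD (Golay.idx p).val 0)))).val 0)) = p)
    (h₂ : ∀ p : GolayPt, Golay.pt (Fin.ofNat 24 (l.getD (Golay.idx
    (Golay.pt (Fin.ofNat 24 (m.getD (Golay.idx p).val 0)))).val 0)) = p) : Equiv.Perm GolayPt :=
  ⟨fun p => Golay.pt (Fin.ofNat 24 (l.getD (Golay.idx p).val 0)),
    fun p => Golay.pt (Fin.ofNat 24 (m.getD (Golay.idx p).val 0)), h₁, h₂⟩

/-- The images of the involution. -/
def xList : List ℕ := [20, 11, 15, 4, 3, 22, 9, 13, 16, 6, 18, 1, 17, 7, 21, 2, 8, 12, 10, 23, 0, 14, 5, 19]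
/-- The images of the element of order three. -/
def yList : List ℕ := [0, 17, 12, 6, 13, 5, 23, 8, 21, 9, 18, 4, 20, 11, 10, 15, 16, 22, 14, 19, 2, 7, 1, 3]
/-- The images of the inverse of the element of order three. -/
def yListInv : List ℕ := [0, 22, 20, 23, 11, 5, 3, 21, 7, 9, 14, 13, 2, 4, 18, 15, 16, 1, 10, 19, 12, 8, 17, 6]

/-- The involution as a permutation. -/
def xPerm : Equiv.Perm GolayPt := listPerm xList xList (by decide +kernel) (by decide +kernel)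
/-- The element of order three as a permutation. -/
def yPerm : Equiv.Perm GolayPt := listPerm yList yListInv (by decide +kernel) (by decide +kernel)

theorem xPerm_mem : xPerm ∈ M24 := by
  rw [← Golay.toPerm_imageList xPerm (by decide +kernel)]
  exact Golay.toPerm_mem_M24 (by decide +kernel)

theorem yPerm_mem : yPerm ∈ M24 := by
  rw [← Golay.toPerm_imageList yPerm (by decide +kernel)]
  exact Golay.toPerm_mem_M24 (by decide +kernel)

/-- The involution in `M₂₄`. -/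
def X : ↥M24 := ⟨xPerm, xPerm_mem⟩
/-- The element of order three in `M₂₄`. -/
def Y : ↥M24 := ⟨yPerm, yPerm_mem⟩
/-- The second generator of the trio stabiliser. -/
def W : ↥M24 := Y * X * Y * ((X * Y⁻¹) ^ 2) * ((X * Y) ^ 3)
/-- The conjugating element of the first long relator. -/
def w₁ : ↥M24 := Y * X * Y⁻¹ * X * Y * X * Y⁻¹ * X
/-- The element in front of the second long relator. -/
def P : ↥M24 := (Y * X * Y * X * Y * X * Y) ^ 3
/-- The conjugating element of the second long relator. -/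
def v : ↥M24 := ((X * Y) ^ 3) * Y * ((X * Y) ^ 6) * Y
/-- Symmetry of the first long relator. -/
def g₁ : ↥M24 := W * W
/-- Symmetry of the second long relator. -/
def g₂ : ↥M24 := X * W⁻¹ * X * W * X * W * W * X * W⁻¹ * X * W * X
/-- Conjugate symmetry of the second long relator. -/
def g₃ : ↥M24 := X * W * X * W⁻¹ * X * W * X * W⁻¹ * X * W * W * X * W * X * W * W

theorem ext24 {a b : ↥M24} (h : ∀ p : GolayPt, (a : Equiv.Perm GolayPt) p = (b : Equiv.Perm GolayPt) p) : a = b :=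
  Subtype.ext (Equiv.ext h)

theorem P_eq : P = X * W * W * X * W * W * X * W⁻¹ * X * W * X * W⁻¹ * X * W⁻¹ * X * W⁻¹ * X * W⁻¹ * X * W⁻¹ * X * W * X := ext24 (by decide +kernel)

theorem e₁ : (w₁⁻¹ * g₁ * w₁) * Y * (w₁⁻¹ * g₁ * w₁)⁻¹ = Y⁻¹ := ext24 (by decide +kernel)

theorem e₂ : g₂ * P * g₂⁻¹ = P⁻¹ := ext24 (by decide +kernel)

theorem e₃ : v * g₂ = g₃ * v := ext24 (by decide +kernel)

theorem rels : X ^ 2 = 1 ∧ Y ^ 3 = 1 ∧ (X * Y) ^ 23 = 1 ∧ (X⁻¹ * Y⁻¹ * X * Y) ^ 12 = 1 ∧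
    (X⁻¹ * (Y * X * Y)⁻¹ * X * (Y * X * Y)) ^ 5 = 1 ∧ (X * Y * ((X * Y * X * (Y⁻¹)) ^ 3)) ^ 4 = 1 ∧
    ((X * Y * X * Y * X * (Y⁻¹)) ^ 3) * ((X * Y * X * (Y⁻¹) * X * (Y⁻¹)) ^ 3) = 1 := by
  refine ⟨?_, ?_, ?_, ?_, ?_, ?_, ?_⟩ <;> exact ext24 (by decide +kernel)

theorem translate_word : ∀ p : GolayPt,
    ((X * Y⁻¹ * X * Y⁻¹ * X * Y * X * Y⁻¹ * X * Y⁻¹ * X * Y * X * Y * X * Y⁻¹ * X * Y⁻¹ * X * Y⁻¹ * X * Y⁻¹ * X * Y * X * Y⁻¹ * X * Y⁻¹ * X * Y⁻¹ * X * Y⁻¹ * X * Y * X * Y * X * Y * X * Y * X * Y * X * Y * X * Y * X * Y⁻¹ : ↥M24) : Equiv.Perm GolayPt) (Golay.translate p) = p := by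
  decide +kernel

theorem projInv_word : ∀ p : GolayPt,
    ((Y⁻¹ * X * Y⁻¹ * X * Y * X * Y * X * Y * X * Y⁻¹ * X * Y⁻¹ * X * Y * X * Y * X * Y⁻¹ * X * Y * X * Y⁻¹ * X * Y * X * Y * X * Y⁻¹ * X * Y⁻¹ * X * Y * X * Y⁻¹ * X * Y * X * Y⁻¹ * X * Y⁻¹ * X * Y * X * Y * X * Y⁻¹ * X * Y⁻¹ * X * Y⁻¹ * X * Y * X * Y : ↥M24) : Equiv.Perm GolayPt) (projInv p) = p := by
  decide +kernel

theorem cubeTwist_word : ∀ p : GolayPt,
    ((X * Y * X * Y⁻¹ * X * Y⁻¹ * X * Y * X * Y * X * Y * X * Y * X * Y * X * Y * X * Y * X * Y⁻¹ * X * Y * X * Y * X * Y * X * Y⁻¹ * X * Y * X * Y⁻¹ * X * Y⁻¹ * X * Y⁻¹ * X * Y⁻¹ * X * Y⁻¹ * X * Y⁻¹ * X * Y⁻¹ * X * Y⁻¹ * X * Y⁻¹ * X * Y⁻¹ * X : ↥M24) : Equiv.Perm GolayPt) (cubeTwist p) = p := by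
  decide +kernel

/-- The two elements generate `M₂₄`. -/
theorem closure_XY : Subgroup.closure ({X, Y} : Set ↥M24) = ⊤ := by
  set S := Subgroup.closure ({X, Y} : Set ↥M24)
  have hX : X ∈ S := Subgroup.subset_closure (Or.inl rfl)
  have hY : Y ∈ S := Subgroup.subset_closure (Or.inr rfl)
  have key : ∀ (σ : Equiv.Perm GolayPt) (g : ↥M24), g ∈ S → (∀ p, (g : Equiv.Perm GolayPt) (σ p) = p) →
      σ ∈ S.map M24.subtype := fun σ g hg h => by
    refine ⟨g⁻¹, inv_mem hg, Equiv.ext fun p => ?_⟩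
    show (g : Equiv.Perm GolayPt)⁻¹ p = σ p
    conv_lhs => rw [← h p]
    exact (g : Equiv.Perm GolayPt).symm_apply_apply _
  have hle : M24 ≤ S.map M24.subtype := by
    intro σ hσ
    rw [← Golay.closure_generators] at hσ
    revert σ hσ
    show Subgroup.closure _ ≤ _
    rw [Subgroup.closure_le]
    rintro σ (rfl | rfl | rfl)
    · refine key _ _ ?_ translate_word
      repeat (first | with_reducible exact hX | with_reducible exact hY | with_reducible exact inv_mem hY | with_reducible apply mul_mem)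
    · refine key _ _ ?_ projInv_word
      repeat (first | with_reducible exact hX | with_reducible exact hY | with_reducible exact inv_mem hY | with_reducible apply mul_mem)
    · refine key _ _ ?_ cubeTwist_word
      repeat (first | with_reducible exact hX | with_reducible exact hY | with_reducible exact inv_mem hY | with_reducible apply mul_mem)
  refine eq_top_iff.2 fun g _ => ?_
  obtain ⟨h, hh, e⟩ := hle g.2
  rw [← Subtype.ext (e : (h : Equiv.Perm GolayPt) = g)]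
  exact hh

end Cfsg.Agent.Lib.J4Schur53
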