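import Mathlib

/-!
A central kernel with a complement over a subgroup of index prime to its order meets the derived group trivially
(transfer).
-/

set_option autoImplicit false

namespace Cfsg.Agent.Lib.J4Schur53

variable {Γ J : Type*} [Group Γ] [Group J] [Finite Γ]

theorem ker_inf_commutator_eq_bot (σ : Γ →* J) (hs : Function.Surjective σ) (hc : σ.ker ≤ Subgroup.center Γ)
    (H₀ : Subgroup Γ) (hH : H₀ ⊓ σ.ker = ⊥) (hidx : Nat.Coprime (H₀.map σ).index (Nat.card σ.ker)) :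
    σ.ker ⊓ commutator Γ = ⊥ := by
  letI : CommGroup σ.ker :=
    { (inferInstance : Group σ.ker) with mul_comm := fun a b => Subtype.ext (Subgroup.mem_center_iff.1 (hc b.2) a) }
  set H : Subgroup Γ := (H₀.map σ).comap σ with hHdef
  have hex : ∀ x : H, ∃ z : σ.ker, (x : Γ) * (z : Γ)⁻¹ ∈ H₀ := by
    intro x
    obtain ⟨h, hh, he⟩ := Subgroup.mem_map.1 (Subgroup.mem_comap.1 x.2)
    refine ⟨⟨h⁻¹ * x, by rw [MonoidHom.mem_ker, map_mul, map_inv, he, inv_mul_cancel]⟩, ?_⟩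
    simpa using hh
  have huni : ∀ (x : Γ) (z z' : σ.ker), x * (z : Γ)⁻¹ ∈ H₀ → x * (z' : Γ)⁻¹ ∈ H₀ → z = z' := by
    intro x z z' h h'
    have h1 : (z : Γ) * (z' : Γ)⁻¹ ∈ H₀ ⊓ σ.ker := by
      refine ⟨?_, σ.ker.mul_mem z.2 (σ.ker.inv_mem z'.2)⟩
      have := mul_mem (inv_mem h) h'
      rwa [show (x * (z : Γ)⁻¹)⁻¹ * (x * (z' : Γ)⁻¹) = (z : Γ) * (z' : Γ)⁻¹ by group] at this
    rw [hH, Subgroup.mem_bot, mul_inv_eq_one] at h1
    exact Subtype.ext h1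
  choose f hf using hex
  let π : H →* σ.ker := MonoidHom.mk' f fun x y => huni _ _ _ (hf _) (by
    have hm := mul_mem (hf x) (hf y)
    rw [show (x : Γ) * (f x : Γ)⁻¹ * ((y : Γ) * (f y : Γ)⁻¹) = (x * y : Γ) * ((f x * f y : σ.ker) : Γ)⁻¹ by
      have hcx := Subgroup.mem_center_iff.1 ((Subgroup.center Γ).inv_mem (hc (f x).2))
      rw [Subgroup.coe_mul, mul_inv_rev, mul_assoc (x : Γ) (f x : Γ)⁻¹, ← mul_assoc (f x : Γ)⁻¹ (y : Γ),
        ← hcx y, mul_assoc (y : Γ), ← hcx (f y : Γ)⁻¹]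
      group] at hm
    exact hm)
  have hπ : ∀ z : σ.ker, ∀ hz : (z : Γ) ∈ H, π ⟨z, hz⟩ = z := fun z hz =>
    huni _ _ _ (hf ⟨(z : Γ), hz⟩) (by simp)
  refine eq_bot_iff.2 ?_
  rintro z ⟨hz, hz'⟩
  have hzH : z ^ H.index ∈ H := by
    rw [hHdef, Subgroup.mem_comap, map_pow, MonoidHom.mem_ker.1 hz, one_pow]
    exact one_mem _
  have hkey : ∀ (k : ℕ) (g₀ : Γ), g₀⁻¹ * z ^ k * g₀ ∈ H → g₀⁻¹ * z ^ k * g₀ = z ^ k := by
    intro k g₀ _
    rw [mul_assoc, ← Subgroup.mem_center_iff.1 (pow_mem (hc hz) k) g₀, ← mul_assoc, inv_mul_cancel, one_mul]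
  have h1 := MonoidHom.transfer_eq_pow π z hkey
  have h2 : (MonoidHom.transfer π) z = 1 := MonoidHom.mem_ker.1 (Abelianization.commutator_subset_ker _ hz')
  have h3 : π ⟨z ^ H.index, hzH⟩ = ⟨z, hz⟩ ^ H.index := by
    rw [← hπ (⟨z, hz⟩ ^ H.index) (by simpa using hzH)]
    rfl
  have h4 : (⟨z, hz⟩ : σ.ker) ^ H.index = 1 := h3 ▸ (h1 ▸ h2)
  rw [hHdef, Subgroup.index_comap_of_surjective _ hs] at h4
  have h5 : orderOf (⟨z, hz⟩ : σ.ker) = 1 :=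
    Nat.dvd_one.1 (hidx ▸ Nat.dvd_gcd (orderOf_dvd_of_pow_eq_one h4) (orderOf_dvd_natCard _))
  simpa using congrArg Subtype.val (orderOf_eq_one_iff.1 h5)

end Cfsg.Agent.Lib.J4Schur53
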