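import Cfsg.Agent.Lib.J4Schur53.Lift
import Cfsg.Agent.Lib.J4Schur53.Split
import Cfsg.Agent.Lib.Golay.Simple
import Cfsg.Agent.Lib.Golay.Code
import Cfsg.Agent.S5548

/-!
A double cover splits over `2¹¹:M₂₄` given by duad involutions, hence, by transfer, meets the derived group trivially
when that subgroup has odd index.
-/

set_option autoImplicit false

namespace Cfsg.Agent.Lib.J4Schur53

open Cfsg Cfsg.Agent.Lib

theorem no_stem_two {J : Type*} [Group J] [Finite J] {ι : ↥M24 →* J} (D : EData ι) (hι : Function.Injective ι)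
    {k : ℕ} (hk : Odd k) (hcard : Nat.card J = k * (2 ^ 11 * 244823040))
    {Γ : Type*} [Group Γ] [Finite Γ] (σ : Γ →* J) (hs : Function.Surjective σ)
    (hc : σ.ker ≤ Subgroup.center Γ) (h2 : ∀ z ∈ σ.ker, z * z = 1) (φ : ↥M24 →* Γ) (hφ : ∀ g, σ (φ g) = ι g) :
    σ.ker ⊓ commutator Γ = ⊥ := by
  classical
  obtain ⟨L, hσ, hequ, hsym, hsq, htri, hcm⟩ := exists_lift_pairs D σ hs hc h2 φ hφ
  -- the points as generators
  let P : GolayPt → Γ := fun a => if a = none then 1 else L none a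
  have hP0 : P none = 1 := if_pos rfl
  have hP : ∀ a, a ≠ none → P a = L none a := fun a h => if_neg h
  have hPsq : ∀ a, P a * P a = 1 := fun a => by
    by_cases h : a = none
    · rw [h, hP0, one_mul]
    · rw [hP a h]; exact hsq _ _ (Ne.symm h)
  have hPcm : ∀ a b, P a * P b = P b * P a := fun a b => by
    by_cases h : a = none
    · rw [h, hP0, one_mul, mul_one]
    by_cases h' : b = none
    · rw [h', hP0, one_mul, mul_one]
    rw [hP a h, hP b h']; exact hcm _ _ _ _ (Ne.symm h) (Ne.symm h')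
  have hLP : ∀ a b, a ≠ b → L a b = P a * P b := fun a b h => by
    by_cases ha : a = none
    · subst ha; rw [hP0, one_mul, hP b h.symm]
    by_cases hb : b = none
    · subst hb; rw [hP0, mul_one, hP a h, hsym a none h]
    rw [hP a ha, hP b hb, hsym none a (Ne.symm ha), htri a none b ha (Ne.symm hb) h]
  -- the subgroup they generate
  let A : Subgroup Γ := Subgroup.closure (Set.range P)
  letI : CommGroup A :=
    { (inferInstance : Group A) with
      mul_comm := fun x y => Subtype.ext (by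
        have hle : A ≤ Subgroup.centralizer (Set.range P) := (Subgroup.closure_le _).2 (by
          rintro _ ⟨a, rfl⟩
          rw [SetLike.mem_coe, Subgroup.mem_centralizer_iff]
          rintro _ ⟨b, rfl⟩
          exact hPcm b a)
        have hle' : A ≤ Subgroup.centralizer (A : Set Γ) := (Subgroup.closure_le _).2 (by
          rintro _ ⟨a, rfl⟩
          rw [SetLike.mem_coe, Subgroup.mem_centralizer_iff]
          intro z hz
          exact (Subgroup.mem_centralizer_iff.1 (hle hz) _ ⟨a, rfl⟩).symm)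
        exact (Subgroup.mem_centralizer_iff.1 (hle' y.2) _ x.2)) }
  let PA : GolayPt → A := fun a => ⟨P a, Subgroup.subset_closure ⟨a, rfl⟩⟩
  have hPA2 : ∀ a, PA a ^ 2 = 1 := fun a => Subtype.ext (by simpa [pow_two] using hPsq a)
  let Ψ : (GolayPt → ZMod 2) → A := fun f => ∏ a, PA a ^ (f a).val
  have hΨadd : ∀ f g, Ψ (f + g) = Ψ f * Ψ g := fun f g => by
    simp only [Ψ]
    rw [← Finset.prod_mul_distrib]
    refine Finset.prod_congr rfl fun a _ => ?_
    rw [← pow_add, Pi.add_apply, ZMod.val_add]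
    exact (pow_eq_pow_mod _ (hPA2 a)).symm
  have hΨ0 : Ψ 0 = 1 := by simp [Ψ]
  let S : (GolayPt → ZMod 2) →+ ZMod 2 :=
    { toFun := fun f => ∑ a, f a, map_zero' := by simp, map_add' := fun f g => Finset.sum_add_distrib }
  have hσP : ∀ a, σ (P a) = if a = none then 1 else D.u none a := fun a => by
    by_cases h : a = none
    · rw [h, hP0, map_one, if_pos rfl]
    · rw [hP a h, hσ _ _ (Ne.symm h), if_neg h]
  -- equivariance
  have hequP : ∀ (g : ↥M24) a, φ g * P a * (φ g)⁻¹ =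
      P ((g : Equiv.Perm GolayPt) none) * P ((g : Equiv.Perm GolayPt) a) := fun g a => by
    by_cases h : a = none
    · rw [h, hP0, mul_one, mul_inv_cancel, hPsq]
    · rw [hP a h, hequ g _ _ (Ne.symm h), hLP]
      exact fun e => h ((g : Equiv.Perm GolayPt).injective e).symm
  have hA : ∀ (g : ↥M24) {x : Γ}, x ∈ A → φ g * x * (φ g)⁻¹ ∈ A := by
    intro g x hx
    induction hx using Subgroup.closure_induction with
    | mem y hy =>
      obtain ⟨a, rfl⟩ := hy
      rw [hequP]
      exact mul_mem (Subgroup.subset_closure ⟨_, rfl⟩) (Subgroup.subset_closure ⟨_, rfl⟩)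
    | one => simp
    | mul y z _ _ hy hz => simpa [mul_assoc] using mul_mem hy hz
    | inv y _ hy => simpa [mul_assoc] using inv_mem hy
  have hΨequ : ∀ (g : ↥M24) f, S f = 0 →
      φ g * (Ψ f : Γ) * (φ g)⁻¹ = (Ψ (fun p => f ((g : Equiv.Perm GolayPt).symm p)) : Γ) := by
    intro g f hf
    let cg : A →* A := MonoidHom.mk' (fun x => ⟨φ g * x * (φ g)⁻¹, hA g x.2⟩) (fun x y => Subtype.ext (by
      show φ g * (x * y : Γ) * (φ g)⁻¹ = φ g * x * (φ g)⁻¹ * (φ g * y * (φ g)⁻¹)
      group))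
    have hcg : ∀ a, cg (PA a) = PA ((g : Equiv.Perm GolayPt) none) * PA ((g : Equiv.Perm GolayPt) a) :=
      fun a => Subtype.ext (hequP g a)
    suffices cg (Ψ f) = Ψ (fun p => f ((g : Equiv.Perm GolayPt).symm p)) from congrArg Subtype.val this
    simp only [Ψ, map_prod, map_pow, hcg, mul_pow, Finset.prod_mul_distrib, Finset.prod_pow_eq_pow_sum]
    have hev : 2 ∣ ∑ a, (f a).val := by
      rw [← ZMod.natCast_eq_zero_iff]
      push_cast
      simpa [S] using hf
    obtain ⟨c, hc'⟩ := hev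
    rw [hc', pow_mul, hPA2, one_pow, one_mul]
    exact (Fintype.prod_equiv (g : Equiv.Perm GolayPt) _ _ (fun a => by simp))
  have hScomp : ∀ (g : Equiv.Perm GolayPt) f, S (fun p => f (g.symm p)) = S f := fun g f =>
    Equiv.sum_comp g.symm f
  -- the two invariant subspaces
  let mk : Subgroup A → Submodule (ZMod 2) (GolayPt → ZMod 2) := fun B =>
    { carrier := {f | S f = 0 ∧ Ψ f ∈ B}
      zero_mem' := ⟨map_zero S, by rw [hΨ0]; exact one_mem B⟩
      add_mem' := fun {f g} hf hg => ⟨by rw [map_add, hf.1, hg.1, add_zero], by rw [hΨadd]; exact mul_mem hf.2 hg.2⟩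
      smul_mem' := fun c f hf => by
        rcases (show c = 0 ∨ c = 1 by revert c; decide) with rfl | rfl
        · rw [zero_smul]; exact ⟨map_zero S, by rw [hΨ0]; exact one_mem B⟩
        · rw [one_smul]; exact hf }
  let W := mk ⊥
  let R := mk (σ.comp A.subtype).ker
  have hRmem : ∀ {f}, f ∈ R ↔ S f = 0 ∧ σ (Ψ f) = 1 := fun {f} => Iff.rfl
  have hWmem : ∀ {f}, f ∈ W ↔ S f = 0 ∧ (Ψ f : Γ) = 1 := fun {f} => by
    show S f = 0 ∧ Ψ f ∈ (⊥ : Subgroup A) ↔ _
    rw [Subgroup.mem_bot, ← OneMemClass.coe_eq_one]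
  have hWinv : ∀ g ∈ M24, ∀ w ∈ W, (fun p => w (g.symm p)) ∈ W := fun g hg w hw => by
    rw [hWmem] at hw ⊢
    exact ⟨(hScomp g w).trans hw.1, by rw [← hΨequ ⟨g, hg⟩ w hw.1, hw.2]; group⟩
  have hRinv : ∀ g ∈ M24, ∀ w ∈ R, (fun p => w (g.symm p)) ∈ R := fun g hg w hw => by
    rw [hRmem] at hw ⊢
    exact ⟨(hScomp g w).trans hw.1, by
      rw [← hΨequ ⟨g, hg⟩ w hw.1, map_mul, map_mul, map_inv, hw.2, mul_one, mul_inv_cancel]⟩
  have hWR : W ≤ R := fun f hf => hRmem.2 ⟨(hWmem.1 hf).1, by rw [(hWmem.1 hf).2, map_one]⟩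
  -- the pair is not in R
  let pair : GolayPt → ZMod 2 := fun p => if p = none ∨ p = some 0 then 1 else 0
  have hne : (none : GolayPt) ≠ some 0 := by simp
  have hΨsupp : ∀ (T : Finset GolayPt), Ψ (fun p => if p ∈ T then 1 else 0) = ∏ a ∈ T, PA a := by
    intro T
    simp only [Ψ]
    rw [← Finset.prod_filter_mul_prod_filter_not Finset.univ (· ∈ T)]
    have e1 : ∀ a ∈ Finset.univ.filter (· ∈ T), PA a ^ (if a ∈ T then (1 : ZMod 2) else 0).val = PA a :=
      fun a ha => by rw [if_pos (Finset.mem_filter.1 ha).2, ZMod.val_one, pow_one]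
    have e2 : ∀ a ∈ Finset.univ.filter (fun a => ¬ a ∈ T), PA a ^ (if a ∈ T then (1 : ZMod 2) else 0).val = 1 :=
      fun a ha => by rw [if_neg (Finset.mem_filter.1 ha).2]; simp
    rw [Finset.prod_congr rfl e1, Finset.prod_eq_one e2, mul_one, Finset.filter_mem_eq_inter, Finset.univ_inter]
  have hpair : pair ∉ R := fun h => by
    have e : pair = fun p => if p ∈ ({none, some 0} : Finset GolayPt) then 1 else 0 := by
      funext p; exact if_congr (Iff.symm (Finset.mem_insert.trans (or_congr_right Finset.mem_singleton))) rfl rfl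
    have h' := (hRmem.1 h).2
    rw [e, hΨsupp, Finset.prod_pair hne, Subgroup.coe_mul] at h'
    rw [show (PA none : Γ) = P none from rfl, show (PA (some 0) : Γ) = P (some 0) from rfl, hP0, one_mul,
      hσP, if_neg hne.symm] at h'
    exact D.ne h'
  -- the relation of eight points
  set o := D.o with hodef
  let O : GolayPt → ZMod 2 := fun p => if p ∈ Finset.image o Finset.univ then 1 else 0
  have hOS : S O = 0 := by
    show ∑ p, O p = 0
    simp only [O]
    rw [Finset.sum_boole, Finset.filter_mem_eq_inter, Finset.univ_inter, Finset.card_image_of_injective _ D.o_inj]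
    decide
  have hOσ : σ (Ψ O) = 1 := by
    have h07 : (List.ofFn fun i : Fin 7 => P (o 0) * P (o i.succ)).prod = (Ψ O : Γ) := by
      have e1 : ∀ i : Fin 7, P (o 0) * P (o i.succ) = ((PA (o 0) * PA (o i.succ) : A) : Γ) := fun i => rfl
      simp only [e1]
      rw [show (fun i : Fin 7 => ((PA (o 0) * PA (o i.succ) : A) : Γ)) =
        A.subtype ∘ fun i : Fin 7 => PA (o 0) * PA (o i.succ) from rfl, ← List.map_ofFn, ← map_list_prod,
        List.prod_ofFn]
      refine congrArg Subtype.val ?_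
      rw [hΨsupp, Finset.prod_image fun a _ b _ e => D.o_inj e, Finset.prod_mul_distrib, Fin.prod_univ_succ (n := 7),
        Finset.prod_const, Finset.card_univ, Fintype.card_fin]
      rw [show PA (o 0) ^ 7 = PA (o 0) * (PA (o 0) ^ 2) ^ 3 by rw [← pow_mul, ← pow_succ'], hPA2, one_pow, mul_one]
    rw [← h07, map_list_prod, List.map_ofFn]
    refine Eq.trans (congrArg List.prod (congrArg List.ofFn (funext fun i => ?_))) D.oct
    have h0 : o 0 ≠ o i.succ := fun e => (Fin.succ_ne_zero i).symm (D.o_inj e)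
    show σ (P (o 0) * P (o i.succ)) = _
    rw [← hLP _ _ h0, hσ _ _ h0]
  have hOR : O ∈ R := hRmem.2 ⟨hOS, hOσ⟩
  obtain ⟨b, hb⟩ : ∃ b : GolayPt, b ∉ Finset.image o Finset.univ := by
    by_contra hall
    push Not at hall
    have h8 : (Finset.univ : Finset GolayPt).card ≤ (Finset.image o Finset.univ).card :=
      Finset.card_le_card fun x _ => hall x
    rw [Finset.card_image_of_injective _ D.o_inj] at h8
    simp [Fintype.card_option] at h8
  obtain ⟨g, g0, g1⟩ := map2 (show o 0 ≠ o 1 from fun e => absurd (D.o_inj e) (by decide))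
    (show o 0 ≠ b from fun e => hb (e ▸ Finset.mem_image_of_mem _ (Finset.mem_univ 0)))
  let w : GolayPt → ZMod 2 := O + fun p => O ((g : Equiv.Perm GolayPt).symm p)
  have hwW : w ∈ W := by
    refine hWmem.2 ⟨by rw [map_add, hScomp, hOS, add_zero], ?_⟩
    have hz : (Ψ O : Γ) ∈ σ.ker := hOσ
    show ((Ψ (O + _) : A) : Γ) = 1
    rw [hΨadd, Subgroup.coe_mul, ← hΨequ g O hOS, Subgroup.mem_center_iff.1 (hc hz) (φ g), mul_inv_cancel_right,
      h2 _ hz]
  have hw0 : w (o 0) = 0 := by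
    have : (g : Equiv.Perm GolayPt).symm (o 0) = o 0 := (Equiv.symm_apply_eq _).2 g0.symm
    show O (o 0) + O ((g : Equiv.Perm GolayPt).symm (o 0)) = 0
    rw [this]
    have hd : ∀ z : ZMod 2, z + z = 0 := by decide
    exact hd _
  have hwb : w b = 1 := by
    have : (g : Equiv.Perm GolayPt).symm b = o 1 := (Equiv.symm_apply_eq _).2 g1.symm
    show O b + O ((g : Equiv.Perm GolayPt).symm b) = 1
    rw [this]
    simp only [O, if_neg hb, if_pos (Finset.mem_image_of_mem o (Finset.mem_univ 1)), zero_add]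
  have hcode : ∀ U : Submodule (ZMod 2) (GolayPt → ZMod 2), (∀ g ∈ M24, ∀ w ∈ U, (fun p => w (g.symm p)) ∈ U) →
      (∀ f ∈ U, S f = 0) → w ∈ U → pair ∉ U → U = golayCode := by
    intro U hU hev hwU hpU
    rcases Cfsg.Agent.S5548.result U hU with h | h | h | h | h
    · rw [h, Submodule.mem_bot] at hwU
      exact absurd (congrFun hwU b) (by rw [hwb]; simp)
    · rw [h, Submodule.mem_span_singleton] at hwU
      obtain ⟨c, hc'⟩ := hwU
      have e0 := congrFun hc' (o 0)
      have eb := congrFun hc' b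
      rw [hw0] at e0; rw [hwb] at eb
      simp at e0 eb
      exact absurd (e0.symm.trans eb) (by decide)
    · exact h
    · refine absurd ?_ hpU
      rw [← SetLike.mem_coe, h, Set.mem_setOf_eq]
      simp [pair, Finset.sum_ite, Finset.filter_or, Finset.filter_eq', hne]
      decide
    · exact absurd (h ▸ Submodule.mem_top) hpU
  have hW : W = golayCode := hcode W hWinv (fun f hf => (hWmem.1 hf).1) hwW (fun h => hpair (hWR h))
  have hR : R = golayCode := hcode R hRinv (fun f hf => (hRmem.1 hf).1) (hWR hwW) hpair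
  -- the complement
  let E : AddSubgroup (GolayPt → ZMod 2) := S.ker
  let ΨE : Multiplicative E →* Γ := A.subtype.comp
    (MonoidHom.mk' (fun f => Ψ (Multiplicative.toAdd f : E).1) fun f g => hΨadd _ _)
  have hV : ∀ (g : ↥M24) {v : Γ}, v ∈ ΨE.range → φ g * v * (φ g)⁻¹ ∈ ΨE.range := by
    rintro g _ ⟨f, rfl⟩
    exact ⟨Multiplicative.ofAdd ⟨_, (hScomp g _).trans (Multiplicative.toAdd f).2⟩,
      (hΨequ g _ (Multiplicative.toAdd f).2).symm⟩
  let H₀ : Subgroup Γ :=
    { carrier := {x | ∃ v ∈ ΨE.range, ∃ g : ↥M24, x = v * φ g}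
      one_mem' := ⟨1, one_mem _, 1, by simp⟩
      mul_mem' := by
        rintro _ _ ⟨v, hv, g, rfl⟩ ⟨v', hv', g', rfl⟩
        exact ⟨v * (φ g * v' * (φ g)⁻¹), mul_mem hv (hV g hv'), g * g', by rw [map_mul]; group⟩
      inv_mem' := by
        rintro _ ⟨v, hv, g, rfl⟩
        exact ⟨φ g⁻¹ * v⁻¹ * (φ g⁻¹)⁻¹, hV g⁻¹ (inv_mem hv), g⁻¹, by rw [map_inv]; group⟩ }
  have hVker : ∀ v ∈ ΨE.range, σ v = 1 → v = 1 := by
    rintro _ ⟨f, rfl⟩ h
    have h' : (Multiplicative.toAdd f : E).1 ∈ R := hRmem.2 ⟨(Multiplicative.toAdd f).2, h⟩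
    rw [hR, ← hW] at h'
    exact (hWmem.1 h').2
  have hEι : ∀ g : ↥M24, ι g ∈ ΨE.range.map σ → g = 1 := by
    set N : Subgroup ↥M24 := (ΨE.range.map σ).comap ι with hN
    have hNn : N.Normal := ⟨fun x hx g => by
      obtain ⟨v, hv, e⟩ := hx
      exact ⟨_, hV g hv, by rw [map_mul, map_mul, map_inv, hφ, e, map_mul, map_mul, map_inv]⟩⟩
    have hNc : ∀ x ∈ N, ∀ y ∈ N, x * y = y * x := by
      intro x hx y hy
      obtain ⟨_, ⟨f, rfl⟩, e⟩ := hx
      obtain ⟨_, ⟨f', rfl⟩, e'⟩ := hy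
      apply hι
      rw [map_mul, map_mul, ← e, ← e', ← map_mul, ← map_mul, ← map_mul, ← map_mul, mul_comm]
    have : IsSimpleGroup ↥M24 := Golay.isSimpleGroup_M24
    rcases hNn.eq_bot_or_eq_top with h | h
    · intro g hg
      exact Subgroup.mem_bot.1 (h ▸ (show g ∈ N from hg))
    · exfalso
      have hcomm : ∀ a b : ↥M24, a * b = b * a := fun a b =>
        hNc a (h ▸ Subgroup.mem_top a) b (h ▸ Subgroup.mem_top b)
      have hp : (Nat.card ↥M24).Prime := by
        letI : CommGroup ↥M24 := { (inferInstance : Group ↥M24) with mul_comm := hcomm }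
        exact IsSimpleGroup.prime_card
      rw [Golay.card_M24] at hp
      exact absurd hp (by norm_num)
  have hsplit : ∀ v ∈ ΨE.range, ∀ g : ↥M24, σ (v * φ g) = 1 → v = 1 ∧ g = 1 := by
    intro v hv g h
    rw [map_mul, hφ] at h
    have hg : g = 1 := hEι g ⟨v⁻¹, inv_mem hv, by rw [map_inv, inv_eq_iff_mul_eq_one, h]⟩
    subst hg
    rw [map_one, mul_one] at h
    exact ⟨hVker v hv h, rfl⟩
  have hH : H₀ ⊓ σ.ker = ⊥ := eq_bot_iff.2 (by
    rintro x ⟨⟨v, hv, g, rfl⟩, hx⟩
    obtain ⟨rfl, rfl⟩ := hsplit v hv g hx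
    simp)
  have hcardV : Nat.card ΨE.range = 2 ^ 11 := by
    have h1 := ΨE.ker.card_eq_card_quotient_mul_card_subgroup
    rw [Nat.card_congr (QuotientGroup.quotientKerEquivRange ΨE).toEquiv] at h1
    have h3 : Nat.card ΨE.ker = 4096 := by
      rw [← Golay.card_golayCode, ← hW]
      exact Nat.card_congr
        { toFun := fun f => ⟨(Multiplicative.toAdd f.1 : E).1, hWmem.2 ⟨(Multiplicative.toAdd f.1).2, f.2⟩⟩
          invFun := fun f => ⟨Multiplicative.ofAdd ⟨f.1, (hWmem.1 f.2).1⟩, (hWmem.1 f.2).2⟩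
          left_inv := fun f => rfl
          right_inv := fun f => rfl }
    have h4 : Nat.card (Multiplicative E) * 2 = 2 ^ 24 := by
      have h5 := E.card_eq_card_quotient_mul_card_addSubgroup
      have hsurj : Function.Surjective S := fun c => ⟨fun p => if p = none then c else 0, by simp [S]⟩
      rw [Nat.card_congr (QuotientAddGroup.quotientKerEquivOfSurjective S hsurj).toEquiv] at h5
      rw [Nat.card_fun, Nat.card_zmod, Nat.card_eq_fintype_card (α := GolayPt), Fintype.card_option, ZMod.card] at h5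
      rw [Nat.card_congr Multiplicative.toAdd, mul_comm]
      omega
    rw [h3] at h1
    omega
  have hcardH : Nat.card H₀ = 2 ^ 11 * 244823040 := by
    rw [← hcardV, ← Golay.card_M24, ← Nat.card_prod]
    refine (Nat.card_congr (Equiv.ofBijective (fun vg : ΨE.range × ↥M24 =>
      (⟨vg.1.1 * φ vg.2, vg.1.1, vg.1.2, vg.2, rfl⟩ : H₀)) ⟨?_, ?_⟩)).symm
    · rintro ⟨v, g⟩ ⟨v', g'⟩ e
      have e' : (v : Γ) * φ g = v' * φ g' := congrArg Subtype.val e
      have h1 : σ (((v' : Γ)⁻¹ * v) * φ (g * g'⁻¹)) = 1 := by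
        rw [show ((v' : Γ)⁻¹ * v) * φ (g * g'⁻¹) = (v' : Γ)⁻¹ * ((v : Γ) * φ g) * (φ g')⁻¹ by
          rw [map_mul, map_inv]; group, e', show (v' : Γ)⁻¹ * ((v' : Γ) * φ g') * (φ g')⁻¹ = 1 by group, map_one]
      obtain ⟨h2, h3⟩ := hsplit _ (mul_mem (inv_mem v'.2) v.2) _ h1
      exact Prod.ext (Subtype.ext (inv_mul_eq_one.1 h2).symm) (mul_inv_eq_one.1 h3)
    · rintro ⟨_, v, hv, g, rfl⟩
      exact ⟨(⟨v, hv⟩, g), rfl⟩
  refine ker_inf_commutator_eq_bot σ hs hc H₀ hH ?_
  have hinj : Function.Injective (σ.comp H₀.subtype) := by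
    rw [injective_iff_map_eq_one]
    intro x hx
    have h0 : (x : Γ) ∈ H₀ ⊓ σ.ker := ⟨x.2, hx⟩
    rw [hH, Subgroup.mem_bot] at h0
    exact Subtype.ext h0
  have hmap : Nat.card (H₀.map σ) = 2 ^ 11 * 244823040 := by
    rw [← hcardH]
    have : H₀.map σ = (σ.comp H₀.subtype).range := by
      rw [MonoidHom.range_comp, Subgroup.range_subtype]
    rw [this]
    exact (Nat.card_congr (MonoidHom.ofInjective hinj).toEquiv).symm
  have hi := (H₀.map σ).index_mul_card
  rw [hmap, hcard] at hi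
  rw [Nat.eq_of_mul_eq_mul_right (by norm_num) hi]
  have hp2 : IsPGroup 2 σ.ker := fun z => ⟨1, Subtype.ext (by simpa [pow_two] using h2 z z.2)⟩
  obtain ⟨n, hn⟩ := IsPGroup.iff_card.1 hp2
  rw [hn]
  exact Nat.Coprime.pow_right _ (Nat.coprime_two_right.2 hk)

end Cfsg.Agent.Lib.J4Schur53
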