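import Cfsg.Agent.Lib.J4Schur53.Odd
import Cfsg.Agent.Lib.J4Schur53.Two
import Cfsg.Agent.Lib.J4Schur53.Duads
import Cfsg.Agent.Lib.Compute.Mathieu.Multiplier
import Cfsg.Prelude.Def_Spor_J4
import Cfsg.Prelude.Def_KGroupFacts

/-!
The multiplier of the presented fourth Janko group is trivial, given the order bound for the pair of generators of
`M₂₄`, the order of the group and its subgroup `2¹¹:M₂₄`.
-/

set_option autoImplicit false

namespace Cfsg.Agent.Lib.J4Schur53

open Cfsg Cfsg.Agent.Lib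
open scoped commutatorElement

/-- The group. -/
abbrev J : Type := Spor.J4

/-- The first generator. -/
abbrev jx : J := PresentedGroup.of Spor.J4.Gen.x
/-- The second generator. -/
abbrev jy : J := PresentedGroup.of Spor.J4.Gen.y
/-- The third generator. -/
abbrev jt : J := PresentedGroup.of Spor.J4.Gen.t
/-- The involution generating `2¹¹:M₂₄` with the first two generators. -/
abbrev ju : J := (jy * (((jy * jx) ^ 4 * jy⁻¹ * jx)⁻¹ * jt * ((jy * jx) ^ 4 * jy⁻¹ * jx))) ^ 3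

/-- The relations of `M₂₄` for a pair of elements. -/
def Rels24 {G : Type*} [Group G] (x y : G) : Prop :=
  x ^ 2 = 1 ∧ y ^ 3 = 1 ∧ (x * y) ^ 23 = 1 ∧ (x⁻¹ * y⁻¹ * x * y) ^ 12 = 1 ∧
    (x⁻¹ * (y * x * y)⁻¹ * x * (y * x * y)) ^ 5 = 1 ∧
    (x * y * ((x * y * x * y⁻¹) ^ 3)) ^ 4 = 1 ∧
    ((x * y * x * y * x * y⁻¹) ^ 3) * ((x * y * x * y⁻¹ * x * y⁻¹) ^ 3) = 1

/-- The pair relations bound the order by that of `M₂₄`. -/
def Bound24 : Prop := ∀ {G : Type} [Group G] (x y : G), Rels24 x y →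
  Finite (Subgroup.closure ({x, y} : Set G)) ∧ Nat.card (Subgroup.closure ({x, y} : Set G)) ≤ 244823040

theorem Rels24.prod {G H : Type*} [Group G] [Group H] {x y : G} {x' y' : H} (h : Rels24 x y) (k : Rels24 x' y') :
    Rels24 (x, x') (y, y') := by
  obtain ⟨h1, h2, h3, h4, h5, h6, h7⟩ := h
  obtain ⟨k1, k2, k3, k4, k5, k6, k7⟩ := k
  exact ⟨Prod.ext h1 k1, Prod.ext h2 k2, Prod.ext h3 k3, Prod.ext h4 k4, Prod.ext h5 k5, Prod.ext h6 k6,
    Prod.ext h7 k7⟩

theorem Rels24.map {G H : Type*} [Group G] [Group H] {x y : G} (f : G →* H) (h : Rels24 x y) :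
    Rels24 (f x) (f y) := by
  obtain ⟨h1, h2, h3, h4, h5, h6, h7⟩ := h
  refine ⟨?_, ?_, ?_, ?_, ?_, ?_, ?_⟩ <;>
    simp only [← map_inv, ← map_mul, ← map_pow, h1, h2, h3, h4, h5, h6, h7, map_one]

theorem rels_XY : Rels24 X Y := rels

attribute [local irreducible] X Y W w₁ P v g₁ g₂ g₃

theorem rel_eq_one {r : FreeGroup Spor.J4.Gen} (h : r ∈ Spor.J4.extra) :
    PresentedGroup.mk (Spor.coxRelators Spor.J4.edges ∪ {r | r ∈ Spor.J4.extra}) r = 1 :=
  PresentedGroup.mk_eq_one_iff.2 (Subgroup.subset_normalClosure (Or.inr h))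

theorem rels_J : Rels24 jx jy := by
  refine ⟨?_, ?_, ?_, ?_, ?_, ?_, ?_⟩
  all_goals
    have h := fun r hr => rel_eq_one (r := r) hr
    simp only [Spor.J4.extra, List.forall_mem_cons, map_mul, map_pow, map_inv] at h
  exacts [h.1, h.2.1, h.2.2.1, h.2.2.2.1, h.2.2.2.2.1, h.2.2.2.2.2.1, h.2.2.2.2.2.2.1]

theorem rels_t : jt ^ 2 = 1 ∧ Commute jt (jy * jx * jy * ((jx * jy⁻¹) ^ 2) * ((jx * jy) ^ 3)) ∧ Commute jt jx ∧
    (jy * ((jy * jx * jy⁻¹ * jx * jy * jx * jy⁻¹ * jx)⁻¹ * jt * (jy * jx * jy⁻¹ * jx * jy * jx * jy⁻¹ * jx))) ^ 3 = 1 ∧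
    (((jy * jx * jy * jx * jy * jx * jy) ^ 3) * jt *
      ((((jx * jy) ^ 3) * jy * ((jx * jy) ^ 6) * jy)⁻¹ * jt * (((jx * jy) ^ 3) * jy * ((jx * jy) ^ 6) * jy))) ^ 2 = 1 := by
  have h := fun r hr => rel_eq_one (r := r) hr
  simp only [Spor.J4.extra, List.forall_mem_cons, map_mul, map_pow, map_inv] at h
  obtain ⟨-, -, -, -, -, -, -, h8, h9, h10, h11, h12, -⟩ := h
  have comm_of : ∀ a b : J, a⁻¹ * b⁻¹ * a * b = 1 → Commute a b := fun a b h => by
    show a * b = b * a
    calc a * b = b * a * (a⁻¹ * b⁻¹ * a * b) := by group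
      _ = b * a := by rw [h, mul_one]
  exact ⟨h8, comm_of _ _ h9, comm_of _ _ h10, h11, h12⟩

theorem commutator_M24 : commutator ↥M24 = ⊤ := by
  have : IsSimpleGroup ↥M24 := Golay.isSimpleGroup_M24
  refine ((inferInstance : (commutator ↥M24).Normal).eq_bot_or_eq_top).resolve_left fun h => ?_
  letI : CommGroup ↥M24 :=
    { (inferInstance : Group ↥M24) with
      mul_comm := fun a b => by
        have : ⁅a, b⁆ ∈ commutator ↥M24 := Subgroup.commutator_mem_commutator (Subgroup.mem_top a) (Subgroup.mem_top b)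
        rw [h, Subgroup.mem_bot, commutatorElement_eq_one_iff_mul_comm] at this
        exact this }
  have hp : (Nat.card ↥M24).Prime := IsSimpleGroup.prime_card
  rw [Golay.card_M24] at hp
  exact absurd hp (by norm_num)

/-- The isomorphism onto the subgroup generated by the first two generators. -/
theorem exists_iota (hB : Bound24) (hu : ju ≠ 1) :
    ∃ ι : ↥M24 →* J, Function.Injective ι ∧ ι X = jx ∧ ι Y = jy := by
  set a : J × ↥M24 := (jx, X) with ha
  set b : J × ↥M24 := (jy, Y) with hb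
  have hr : Rels24 a b := rels_J.prod rels_XY
  obtain ⟨hfin, hle⟩ := hB a b hr
  set D := Subgroup.closure ({a, b} : Set (J × ↥M24))
  let p : D →* ↥M24 := (MonoidHom.snd J ↥M24).comp D.subtype
  have hsurj : Function.Surjective p := by
    rw [← MonoidHom.range_eq_top, eq_top_iff, ← closure_XY, Subgroup.closure_le]
    rintro g (rfl | rfl)
    · exact ⟨⟨a, Subgroup.subset_closure (Or.inl rfl)⟩, rfl⟩
    · exact ⟨⟨b, Subgroup.subset_closure (Or.inr rfl)⟩, rfl⟩
  have hcard : Nat.card D = Nat.card ↥M24 :=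
    le_antisymm (Golay.card_M24.symm ▸ hle) (Nat.card_le_card_of_surjective p hsurj)
  have hbij : Function.Bijective p := (Nat.bijective_iff_surjective_and_card _).2 ⟨hsurj, hcard⟩
  let q : ↥M24 ≃* D := (MulEquiv.ofBijective p hbij).symm
  let ι : ↥M24 →* J := ((MonoidHom.fst J ↥M24).comp D.subtype).comp q.toMonoidHom
  have hq : ∀ (z : D) g, p z = g → q g = z := fun z g h => by
    rw [← h]; exact (MulEquiv.ofBijective p hbij).symm_apply_apply z
  have hX : ι X = jx := by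
    show ((q X : D) : J × ↥M24).1 = jx
    rw [hq ⟨a, Subgroup.subset_closure (Or.inl rfl)⟩ X rfl]
  have hY : ι Y = jy := by
    show ((q Y : D) : J × ↥M24).1 = jy
    rw [hq ⟨b, Subgroup.subset_closure (Or.inr rfl)⟩ Y rfl]
  refine ⟨ι, ?_, hX, hY⟩
  have : IsSimpleGroup ↥M24 := Golay.isSimpleGroup_M24
  refine (MonoidHom.ker_eq_bot_iff ι).1 ((ι.normal_ker.eq_bot_or_eq_top).resolve_right fun h => ?_)
  have hx1 : jx = 1 := by rw [← hX, ← MonoidHom.mem_ker, h]; exact Subgroup.mem_top _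
  have hy1 : jy = 1 := by rw [← hY, ← MonoidHom.mem_ker, h]; exact Subgroup.mem_top _
  refine hu ?_
  have h11 := rels_t.2.2.2.1
  simp only [hx1, hy1, one_mul, mul_one, inv_one] at h11
  simp only [ju, hx1, hy1, one_pow, one_mul, mul_one, inv_one, h11]

/-- An embedded `M₂₄` lifts to any finite central extension. -/
theorem exists_phi {ι : ↥M24 →* J} (hι : Function.Injective ι) {Γ : Type} [Group Γ] [Finite Γ] (σ : Γ →* J)
    (hs : Function.Surjective σ) (hc : σ.ker ≤ Subgroup.center Γ) : ∃ φ : ↥M24 →* Γ, ∀ g, σ (φ g) = ι g := by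
  obtain ⟨K, hK, hmin⟩ := Set.Finite.exists_minimal (s := {K : Subgroup Γ | K.map σ = ι.range}) (Set.toFinite _)
    ⟨ι.range.comap σ, Subgroup.map_comap_eq_self_of_surjective hs _⟩
  replace hK : K.map σ = ι.range := hK
  let π : ↥K →* ↥M24 := (MonoidHom.ofInjective hι).symm.toMonoidHom.comp
    ((σ.comp K.subtype).codRestrict ι.range fun k => hK ▸ Subgroup.mem_map_of_mem σ k.2)
  have hπ : ∀ k, ι (π k) = σ k := fun k => by
    have h := (MonoidHom.ofInjective hι).apply_symm_apply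
      ((σ.comp K.subtype).codRestrict ι.range (fun k => hK ▸ Subgroup.mem_map_of_mem σ k.2) k)
    exact congrArg Subtype.val h
  have hsurj : Function.Surjective π := fun g => by
    obtain ⟨k, hk, e⟩ := Subgroup.mem_map.1 (show ι g ∈ K.map σ by rw [hK]; exact ⟨g, rfl⟩)
    exact ⟨⟨k, hk⟩, hι ((hπ _).trans e)⟩
  have hπc : π.ker ≤ Subgroup.center ↥K := fun k hk => Subgroup.mem_center_iff.2 fun k' => Subtype.ext
    (Subgroup.mem_center_iff.1 (hc (show (k : Γ) ∈ σ.ker by
      rw [MonoidHom.mem_ker, ← hπ, MonoidHom.mem_ker.1 hk, map_one])) k')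
  have hperf : commutator ↥K = ⊤ := by
    have hmem : ((commutator ↥K).map K.subtype).map σ = ι.range := by
      have e1 : (commutator ↥K).map π = ⊤ := by
        rw [commutator_def, Subgroup.map_commutator, Subgroup.map_top_of_surjective _ hsurj, ← commutator_def,
          commutator_M24]
      rw [Subgroup.map_map, show σ.comp K.subtype = ι.comp π from MonoidHom.ext fun k => (hπ k).symm,
        ← Subgroup.map_map, e1, MonoidHom.range_eq_map]
    have h2 := hmin hmem (Subgroup.map_subtype_le _)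
    rw [eq_top_iff]
    intro k _
    obtain ⟨k', hk', e⟩ := h2 k.2
    exact (Subtype.ext e : k' = k) ▸ hk'
  obtain ⟨f, hf⟩ := Compute.Mathieu.schur_M24.2 ↥K π ⟨hsurj, hπc, hperf ▸ le_top⟩
  have hinj : Function.Injective π := (injective_iff_map_eq_one π).2 fun k hk => by
    obtain ⟨m, hm⟩ := hf ⟨k, hk⟩
    rw [Subsingleton.elim m 1, map_one] at hm
    exact congrArg Subtype.val hm.symm
  refine ⟨K.subtype.comp (MulEquiv.ofBijective π ⟨hinj, hsurj⟩).symm.toMonoidHom, fun g => ?_⟩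
  show σ ((MulEquiv.ofBijective π ⟨hinj, hsurj⟩).symm g : Γ) = ι g
  rw [← hπ]
  exact congrArg ι ((MulEquiv.ofBijective π ⟨hinj, hsurj⟩).apply_symm_apply g)

/-- No stem extension with kernel of odd order. -/
theorem no_stem_odd {ι : ↥M24 →* J} (hX : ι X = jx) (hY : ι Y = jy) {Γ : Type} [Group Γ] (σ : Γ →* J)
    (hs : Function.Surjective σ) (hc : σ.ker ≤ Subgroup.center Γ) (hodd : ∀ z ∈ σ.ker, Odd (orderOf z))
    (φ : ↥M24 →* Γ) (hφ : ∀ g, σ (φ g) = ι g) : σ.ker ⊓ commutator Γ = ⊥ := by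
  obtain ⟨ht2, htW, htx, h11, h12⟩ := rels_t
  let C : Subgroup ↥M24 := (Subgroup.centralizer {jt}).comap ι
  have hCm : ∀ {g}, g ∈ C → Commute (σ (φ g)) jt := fun {g} h => by
    rw [hφ]
    exact (Subgroup.mem_centralizer_singleton_iff.1 h)
  have hCX : X ∈ C := Subgroup.mem_centralizer_singleton_iff.2 (by rw [hX]; exact htx.symm.eq)
  have hCW : W ∈ C := Subgroup.mem_centralizer_singleton_iff.2 (by
    simp only [W, map_mul, map_pow, map_inv, hX, hY]; exact htW.symm.eq)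
  have hg₁ : g₁ ∈ C := by rw [g₁]; exact mul_mem hCW hCW
  have hg₂ : g₂ ∈ C := by
    rw [g₂]
    repeat (first | with_reducible exact hCX | with_reducible exact hCW | with_reducible exact inv_mem hCW |
      with_reducible apply mul_mem)
  have hg₃ : g₃ ∈ C := by
    rw [g₃]
    repeat (first | with_reducible exact hCX | with_reducible exact hCW | with_reducible exact inv_mem hCW |
      with_reducible apply mul_mem)
  have hP : P ∈ C := by
    rw [P_eq]
    repeat (first | with_reducible exact hCX | with_reducible exact hCW | with_reducible exact inv_mem hCW |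
      with_reducible apply mul_mem)
  obtain ⟨T, hT, hT2, hTc, R₁, R₂⟩ := relators_lift σ hs hc hodd φ ht2 (hCm hg₁) (hCm hg₂) (hCm hg₃) (hCm hP)
    e₁ e₂ e₃ (by simp only [hφ, w₁, map_mul, map_inv, hX, hY]; exact h11)
    (by simp only [hφ, P, v, map_mul, map_pow, hX, hY]; exact h12)
  have comm_one : ∀ a : Γ, Commute a T → T⁻¹ * a⁻¹ * T * a = 1 := fun a h => by
    rw [mul_assoc, ← h.eq]; group
  let f : Spor.J4.Gen → Γ := fun
    | .x => φ X
    | .y => φ Y
    | .t => T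
  have hrel : ∀ r ∈ Spor.coxRelators Spor.J4.edges ∪ {r | r ∈ Spor.J4.extra}, FreeGroup.lift f r = 1 := by
    rintro r (hr | hr)
    · simp [Spor.coxRelators, Spor.coxNodes, Spor.J4.edges] at hr
    · obtain ⟨l1, l2, l3, l4, l5, l6, l7⟩ := rels_XY.map φ
      have hc9 := comm_one (φ W) (hTc _ (hCm hCW))
      have hc10 := comm_one (φ X) (hTc _ (hCm hCX))
      simp only [map_mul, map_pow, map_inv, W, w₁, P, v] at hc9 hc10 R₁ R₂
      revert r
      show ∀ r ∈ Spor.J4.extra, _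
      simp only [Spor.J4.extra, List.forall_mem_cons, map_mul, map_pow, map_inv, FreeGroup.lift_apply_of, f]
      exact ⟨l1, l2, l3, l4, l5, l6, l7, hT2, hc9, hc10, R₁, R₂, fun _ h => absurd h List.not_mem_nil⟩
  let s : J →* Γ := PresentedGroup.toGroup hrel
  have hsec : σ.comp s = MonoidHom.id J := PresentedGroup.ext fun g => by
    show σ (PresentedGroup.toGroup hrel (PresentedGroup.of g)) = _
    rw [PresentedGroup.toGroup.of]
    cases g
    · show σ (φ X) = jx; rw [hφ, hX]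
    · show σ (φ Y) = jy; rw [hφ, hY]
    · exact hT
  have hσs : ∀ j, σ (s j) = j := fun j => DFunLike.congr_fun hsec j
  have hcomm : commutator Γ ≤ s.range := by
    rw [commutator_eq_closure, Subgroup.closure_le]
    rintro _ ⟨a, b, rfl⟩
    have hz : ∀ g : Γ, ∃ z ∈ σ.ker, g = s (σ g) * z := fun g =>
      ⟨(s (σ g))⁻¹ * g, by rw [MonoidHom.mem_ker, map_mul, map_inv, hσs, inv_mul_cancel], by group⟩
    obtain ⟨z, hzk, ea⟩ := hz a
    obtain ⟨z', hz'k, eb⟩ := hz b
    refine ⟨⁅σ a, σ b⁆, ?_⟩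
    have hzc := fun g => Subgroup.mem_center_iff.1 (hc hzk) g
    have hz'c := fun g => Subgroup.mem_center_iff.1 (hc hz'k) g
    have e : ⁅a, b⁆ = ⁅s (σ a), s (σ b)⁆ := by
      conv_lhs => rw [ea, eb]
      set A := s (σ a); set B := s (σ b)
      rw [commutatorElement_def, commutatorElement_def, mul_inv_rev, mul_inv_rev]
      calc A * z * (B * z') * (z⁻¹ * A⁻¹) * (z'⁻¹ * B⁻¹)
          = A * (z * (B * z' * z⁻¹)) * A⁻¹ * z'⁻¹ * B⁻¹ := by group
        _ = A * B * (z' * A⁻¹) * z'⁻¹ * B⁻¹ := by rw [← hzc]; group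
        _ = A * B * A⁻¹ * B⁻¹ := by rw [← hz'c]; group
    rw [e, map_commutatorElement]
  refine eq_bot_iff.2 fun z hz => ?_
  obtain ⟨j, rfl⟩ := hcomm hz.2
  rw [Subgroup.mem_bot, ← hσs j, MonoidHom.mem_ker.1 hz.1, map_one]

/-- The multiplier is trivial. -/
theorem hasCyclicSchurMultiplier_J4 [Finite J] (hB : Bound24) (hcard : Nat.card J = 86775571046077562880)
    {e : Fin 11 → J} (hsq : ∀ i, e i * e i = 1) (hcm : ∀ i j, e i * e j = e j * e i)
    (hx : ∀ i : Fin 11, jx⁻¹ * e i * jx = maskProd e (rowsX.getD i.val 0))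
    (hy : ∀ i : Fin 11, jy⁻¹ * e i * jy = maskProd e (rowsY.getD i.val 0))
    (hju : maskProd e 934 = ju) (hu : ju ≠ 1) : HasCyclicSchurMultiplier Spor.J4 1 := by
  obtain ⟨ι, hι, hX, hY⟩ := exists_iota hB hu
  obtain ⟨D⟩ := exists_eData ι hsq hcm (by rw [hX]; exact hx) (by rw [hY]; exact hy) (hju.symm ▸ hu)
  refine ⟨⟨J, inferInstance, inferInstance, MonoidHom.id J,
    ⟨Function.surjective_id, fun z hz => ?_, fun z hz => ?_⟩, ?_⟩, ?_⟩
  · obtain rfl : z = 1 := hz
    exact one_mem _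
  · obtain rfl : z = 1 := hz
    exact one_mem _
  · have : Subsingleton (MonoidHom.id J).ker :=
      ⟨fun a b => Subtype.ext (((MonoidHom.mem_ker.1 a.2 : (a : J) = 1)).trans (MonoidHom.mem_ker.1 b.2 : (b : J) = 1).symm)⟩
    let : Unique (MonoidHom.id J).ker := uniqueOfSubsingleton 1
    exact ⟨MulEquiv.ofUnique⟩
  intro Γ _ _ σ hσ
  obtain ⟨hs, hc, hcomm⟩ := hσ
  obtain ⟨φ, hφ⟩ := exists_phi hι σ hs hc
  -- the squares of the kernel
  letI : CommGroup σ.ker :=
    { (inferInstance : Group σ.ker) with mul_comm := fun a b => Subtype.ext (Subgroup.mem_center_iff.1 (hc b.2) a) }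
  let N : Subgroup Γ := ((powMonoidHom 2 : σ.ker →* σ.ker).range).map σ.ker.subtype
  have hNk : N ≤ σ.ker := Subgroup.map_subtype_le _
  have hNn : N.Normal := ⟨fun n hn g => by
    rwa [Subgroup.mem_center_iff.1 (hc (hNk hn)) g, mul_inv_cancel_right]⟩
  let τ : Γ ⧸ N →* J := QuotientGroup.lift N σ hNk
  let m := QuotientGroup.mk' N
  have hm : Function.Surjective m := QuotientGroup.mk'_surjective N
  have hτ : ∀ g, τ (m g) = σ g := fun g => rfl
  have h2 : ∀ z ∈ τ.ker, z * z = 1 := by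
    intro z hz
    obtain ⟨g, rfl⟩ := hm z
    rw [← map_mul]
    refine (QuotientGroup.eq_one_iff _).2 ⟨(⟨g, hz⟩ : σ.ker) ^ 2, ⟨_, rfl⟩, ?_⟩
    simp [pow_two]
  have hcτ : τ.ker ≤ Subgroup.center (Γ ⧸ N) := by
    intro z hz
    obtain ⟨g, rfl⟩ := hm z
    refine Subgroup.mem_center_iff.2 fun w => ?_
    obtain ⟨h, rfl⟩ := hm w
    rw [← map_mul, ← map_mul, Subgroup.mem_center_iff.1 (hc (show g ∈ σ.ker from hz)) h]
  have htwo := no_stem_two D hι (k := 173067389) (by decide) (by rw [hcard]; norm_num) τ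
    (fun j => (hs j).elim fun g e => ⟨m g, e⟩) hcτ h2 (m.comp φ) hφ
  have hsqs : ∀ z ∈ σ.ker, z ∈ N := by
    intro z hz
    refine (QuotientGroup.eq_one_iff z).1 ?_
    have hmem : m z ∈ τ.ker ⊓ commutator (Γ ⧸ N) := by
      refine ⟨hz, ?_⟩
      have := Subgroup.mem_map_of_mem m (hcomm hz)
      rwa [commutator_def, Subgroup.map_commutator, Subgroup.map_top_of_surjective _ hm, ← commutator_def] at this
    rw [htwo, Subgroup.mem_bot] at hmem
    exact hmem
  have hodd : ∀ z ∈ σ.ker, Odd (orderOf z) := by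
    have hsurj : Function.Surjective (powMonoidHom 2 : σ.ker →* σ.ker) := fun z => by
      obtain ⟨y, ⟨x, rfl⟩, e⟩ := hsqs z z.2
      exact ⟨x, Subtype.ext e⟩
    have hinj := Finite.injective_iff_surjective.2 hsurj
    intro z hz
    rw [← Nat.not_even_iff_odd]
    rintro ⟨j, hj⟩
    have hj0 : 0 < j := by have := orderOf_pos z; omega
    have h1 : (⟨z, hz⟩ : σ.ker) ^ j = 1 := hinj (Subtype.ext (by
      show ((((⟨z, hz⟩ : σ.ker) ^ j) ^ 2 : σ.ker) : Γ) = (((1 : σ.ker) ^ 2 : σ.ker) : Γ)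
      simp only [SubmonoidClass.coe_pow, OneMemClass.coe_one, one_pow]
      rw [← pow_mul, mul_two, ← hj, pow_orderOf_eq_one]))
    have h3 : z ^ j = 1 := by simpa using congrArg Subtype.val h1
    have := Nat.le_of_dvd hj0 (orderOf_dvd_of_pow_eq_one h3)
    omega
  have hbot := no_stem_odd hX hY σ hs hc hodd φ hφ
  refine ⟨1, fun z => ⟨1, ?_⟩⟩
  have hz : (z : Γ) ∈ σ.ker ⊓ commutator Γ := ⟨z.2, hcomm z.2⟩
  rw [hbot, Subgroup.mem_bot] at hz
  exact Subtype.ext hz.symm

end Cfsg.Agent.Lib.J4Schur53
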