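import Cfsg.Agent.Lib.J4Schur53.Main
import Cfsg.Agent.Lib.J4Rep72.Rep

/-!
The involution generating `2¹¹:M₂₄` with the first two generators is non-trivial: its image in the representation
of dimension `112`.
-/

set_option autoImplicit false
set_option maxRecDepth 20000

namespace Cfsg.Agent.Lib.J4Schur53

open Cfsg Cfsg.Agent.Lib

section
open J4Rep72.Exp
local infixl:70 " ⬝ " => J4Rep72.Exp.mul

/-- The word of the involution. -/
def uExp : J4Rep72.Exp :=
  pow (y ⬝ (inv (pow (y ⬝ x) 4 ⬝ inv y ⬝ x) ⬝ t ⬝ (pow (y ⬝ x) 4 ⬝ inv y ⬝ x))) 3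

end

theorem uExp_lt : (uExp.word.all fun l => Nat.blt l 4) = true := by decide +kernel

theorem uExp_row : Nat.beq ((J4Rep72.wordM J4Rep72.matLet uExp.word).getD 1 0 % 2 ^ 112) 2 = false := by
  decide +kernel

attribute [local irreducible] J4Rep72.toMat J4Rep72.matLet J4Rep72.wordM J4Rep72.unitGen

theorem rep_letVal (l : ℕ) : J4Rep72.rep (J4Rep72.letVal (PresentedGroup.of : Spor.J4.Gen → J) l) =
    J4Rep72.letVal J4Rep72.unitGen l := by
  unfold J4Rep72.letVal J4Rep72.rep
  split_ifs <;> simp only [map_inv, PresentedGroup.toGroup.of]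

theorem ju_ne_one : ju ≠ 1 := by
  intro h
  have h2 : ((uExp.word.map (J4Rep72.letVal (PresentedGroup.of : Spor.J4.Gen → J))).prod : J) = 1 := by
    rw [← J4Rep72.lift_free (by rw [← pow_two]; exact rels_J.1) (by rw [← pow_two]; exact rels_t.1) uExp]
    simp only [uExp, J4Rep72.Exp.free, map_mul, map_pow, map_inv, FreeGroup.lift_apply_of]
    exact h
  have h4 : J4Rep72.toMat (J4Rep72.wordM J4Rep72.matLet uExp.word) = 1 := by
    rw [(J4Rep72.toMat_wordM J4Rep72.len_let uExp.word).2]
    have h5 := congrArg (fun a : J => Units.val (J4Rep72.rep a)) h2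
    simp only [map_one, Units.val_one] at h5
    rw [← Units.coeHom_apply, map_list_prod, List.map_map, map_list_prod, List.map_map] at h5
    refine Eq.trans ?_ h5
    refine congrArg List.prod (List.map_congr_left fun l hl => ?_)
    show _ = Units.val (J4Rep72.rep (J4Rep72.letVal (PresentedGroup.of : Spor.J4.Gen → J) l))
    rw [rep_letVal]
    exact (J4Rep72.coe_letVal (Nat.le_of_ble_eq_true (List.all_eq_true.1 uExp_lt l hl))).symm
  have key : ∀ A : List ℕ, J4Rep72.toMat A = 1 → A.getD 1 0 % 2 ^ 112 = 2 := by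
    intro A hA
    refine Nat.eq_of_testBit_eq fun j => ?_
    rw [Nat.testBit_mod_two_pow]
    by_cases hj : j < 112
    · rw [decide_eq_true hj, Bool.true_and, show (2 : ℕ) = 2 ^ 1 from rfl, Nat.testBit_two_pow]
      have e := congrFun (congrFun hA ⟨1, by omega⟩) ⟨j, hj⟩
      unfold J4Rep72.toMat J4Rep72.bitZ at e
      simp only [Matrix.one_apply, Fin.ext_iff] at e
      by_cases h1j : 1 = j
      · rw [if_pos h1j] at e
        rw [decide_eq_true h1j]
        cases hb : (A.getD 1 0).testBit j
        · rw [hb] at e; exact absurd e (by decide)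
        · rfl
      · rw [if_neg h1j] at e
        rw [decide_eq_false h1j]
        cases hb : (A.getD 1 0).testBit j
        · rfl
        · rw [hb] at e; exact absurd e (by decide)
    · rw [decide_eq_false hj, Bool.false_and, show (2 : ℕ) = 2 ^ 1 from rfl, Nat.testBit_two_pow]
      exact (decide_eq_false (by omega)).symm
  have hkey := key _ h4
  have hrow := uExp_row
  rw [hkey] at hrow
  exact absurd hrow (by decide)

end Cfsg.Agent.Lib.J4Schur53
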