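import Mathlib

/-!
Lifting the two long relators of the symmetric presentation of the fourth Janko group to a central extension
with kernel of odd order: a symmetry of each relator inverts its value, so the value is `1`.
-/

set_option autoImplicit false

namespace Cfsg.Agent.Lib.J4Schur53

variable {Γ J K : Type*} [Group Γ] [Group J] [Group K]

/-- An element whose inverse is conjugate to itself has trivial central powers of odd order. -/
theorem pow_eq_one_of_inv_conj {u h : Γ} {n : ℕ} (hc : u ^ n ∈ Subgroup.center Γ) (hodd : Odd (orderOf (u ^ n)))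
    (he : h * u * h⁻¹ = u⁻¹) : u ^ n = 1 := by
  have h1 : h * u ^ n * h⁻¹ = u ^ n := by
    rw [Subgroup.mem_center_iff.1 hc h, mul_inv_cancel_right]
  rw [← conj_pow, he, inv_pow, inv_eq_iff_mul_eq_one, ← pow_two] at h1
  exact orderOf_eq_one_iff.1 (Nat.dvd_one.1 (by
    have h2 := Nat.dvd_gcd (orderOf_dvd_of_pow_eq_one h1) (dvd_refl (orderOf (u ^ n)))
    rwa [Nat.Coprime.gcd_eq_one (Nat.coprime_two_left.2 hodd)] at h2))

/-- In a central extension with kernel of odd order an involution lifts to an involution, which centralises every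
lift of an element centralising it. -/
theorem exists_lift (σ : Γ →* J) (hs : Function.Surjective σ) (hc : σ.ker ≤ Subgroup.center Γ)
    (hodd : ∀ z ∈ σ.ker, Odd (orderOf z)) {t : J} (ht : t ^ 2 = 1) :
    ∃ T : Γ, σ T = t ∧ T ^ 2 = 1 ∧ ∀ a : Γ, Commute (σ a) t → Commute a T := by
  obtain ⟨T₀, rfl⟩ := hs t
  have hz : T₀ ^ 2 ∈ σ.ker := by rw [MonoidHom.mem_ker, map_pow, ht]
  obtain ⟨m, hm⟩ := hodd _ hz
  have hord : (T₀ ^ 2) ^ (2 * m + 1) = 1 := hm ▸ pow_orderOf_eq_one _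
  refine ⟨T₀ ^ (2 * m + 1), ?_, ?_, ?_⟩
  · rw [map_pow, pow_succ, pow_mul, ht, one_pow, one_mul]
  · rw [← pow_mul, mul_comm, pow_mul, hord]
  · intro a ha
    set T := T₀ ^ (2 * m + 1) with hT
    have hT1 : σ T = σ T₀ := by rw [hT, map_pow, pow_succ, pow_mul, ht, one_pow, one_mul]
    have hT2 : T * T = 1 := by rw [hT, ← pow_add, ← two_mul, pow_mul, hord]
    set c := a * T * a⁻¹ * T⁻¹ with hcd
    have hck : c ∈ σ.ker := by
      rw [MonoidHom.mem_ker, hcd, map_mul, map_mul, map_mul, map_inv, map_inv, hT1, ha.eq]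
      group
    have hcc := hc hck
    have h2 : c ^ 2 = 1 := by
      have h3 : a * T * a⁻¹ = c * T := by rw [hcd]; group
      have h4 : (a * T * a⁻¹) * (a * T * a⁻¹) = 1 := by
        rw [show (a * T * a⁻¹) * (a * T * a⁻¹) = a * (T * T) * a⁻¹ by group, hT2]
        group
      rw [h3, show c * T * (c * T) = c * (T * c) * T by group, Subgroup.mem_center_iff.1 hcc T,
        show c * (c * T) * T = c * c * (T * T) by group, hT2, mul_one] at h4
      rwa [pow_two]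
    have h5 : c = 1 := orderOf_eq_one_iff.1 (Nat.dvd_one.1 (by
      have h6 := Nat.dvd_gcd (orderOf_dvd_of_pow_eq_one h2) (dvd_refl (orderOf c))
      rwa [Nat.Coprime.gcd_eq_one (Nat.coprime_two_left.2 (hodd c hck))] at h6))
    rw [hcd, mul_inv_eq_one, mul_inv_eq_iff_eq_mul] at h5
    exact h5

/-- The two long relators lift. `L` is any set of elements of `K` whose images centralise `t`. -/
theorem relators_lift (σ : Γ →* J) (hs : Function.Surjective σ) (hc : σ.ker ≤ Subgroup.center Γ)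
    (hodd : ∀ z ∈ σ.ker, Odd (orderOf z)) (φ : K →* Γ) {t : J} (ht : t ^ 2 = 1)
    {y w P v g₁ g₂ g₃ : K} (hg₁ : Commute (σ (φ g₁)) t) (hg₂ : Commute (σ (φ g₂)) t)
    (hg₃ : Commute (σ (φ g₃)) t) (hP : Commute (σ (φ P)) t)
    (e₁ : (w⁻¹ * g₁ * w) * y * (w⁻¹ * g₁ * w)⁻¹ = y⁻¹) (e₂ : g₂ * P * g₂⁻¹ = P⁻¹) (e₃ : v * g₂ = g₃ * v)
    (r₁ : (σ (φ y) * ((σ (φ w))⁻¹ * t * σ (φ w))) ^ 3 = 1)
    (r₂ : (σ (φ P) * t * ((σ (φ v))⁻¹ * t * σ (φ v))) ^ 2 = 1) :
    ∃ T : Γ, σ T = t ∧ T ^ 2 = 1 ∧ (∀ a : Γ, Commute (σ a) t → Commute a T) ∧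
      (φ y * ((φ w)⁻¹ * T * φ w)) ^ 3 = 1 ∧ (φ P * T * ((φ v)⁻¹ * T * φ v)) ^ 2 = 1 := by
  obtain ⟨T, hT, hT2, hcm⟩ := exists_lift σ hs hc hodd ht
  have hTi : T⁻¹ = T := inv_eq_of_mul_eq_one_left (by rw [← pow_two, hT2])
  refine ⟨T, hT, hT2, hcm, ?_, ?_⟩
  · set u := φ y * ((φ w)⁻¹ * T * φ w) with hu
    set S := (φ w)⁻¹ * T * φ w with hS
    set h := φ (w⁻¹ * g₁ * w) with hh
    have hk : u ^ 3 ∈ σ.ker := by
      rw [MonoidHom.mem_ker, hu, hS, map_pow, map_mul, map_mul, map_mul, map_inv, hT, r₁]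
    refine pow_eq_one_of_inv_conj (h := S * h) (hc hk) (hodd _ hk) ?_
    have h1 : h * φ y * h⁻¹ = (φ y)⁻¹ := by rw [hh, ← map_inv, ← map_mul, ← map_mul, e₁, map_inv]
    have h2 : h * S * h⁻¹ = S := by
      have h3 : φ g₁ * T * (φ g₁)⁻¹ = T := mul_inv_eq_iff_eq_mul.2 (hcm _ hg₁).eq
      rw [hh, hS, map_mul, map_mul, map_inv]
      calc _ = (φ w)⁻¹ * (φ g₁ * T * (φ g₁)⁻¹) * φ w := by group
        _ = _ := by rw [h3]
    have hSi : S⁻¹ = S := by rw [hS]; simp only [mul_inv_rev, inv_inv, hTi, mul_assoc]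
    calc S * h * u * (S * h)⁻¹ = S * ((h * φ y * h⁻¹) * (h * S * h⁻¹)) * S⁻¹ := by rw [hu]; group
      _ = S * (φ y)⁻¹ := by rw [h1, h2]; group
      _ = u⁻¹ := by rw [hu, mul_inv_rev, hSi]
  · set S := (φ v)⁻¹ * T * φ v with hS
    set u := φ P * T * S with hu
    set h := φ g₂
    have hk : u ^ 2 ∈ σ.ker := by
      rw [MonoidHom.mem_ker, hu, hS]
      simp only [map_pow, map_mul, map_inv, hT]
      exact r₂
    refine pow_eq_one_of_inv_conj (h := S * h) (hc hk) (hodd _ hk) ?_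
    have h1 : h * φ P * h⁻¹ = (φ P)⁻¹ := by rw [← map_inv, ← map_mul, ← map_mul, e₂, map_inv]
    have h2 : h * T * h⁻¹ = T := mul_inv_eq_iff_eq_mul.2 (hcm _ hg₂).eq
    have h4 : φ v * h = φ g₃ * φ v := by rw [← map_mul, ← map_mul, e₃]
    have h3 : h * S * h⁻¹ = S := by
      have h5 : (φ g₃)⁻¹ * T * φ g₃ = T := by
        rw [mul_assoc, ← (hcm _ hg₃).eq, ← mul_assoc, inv_mul_cancel, one_mul]
      have h6 : φ v * h⁻¹ = (φ g₃)⁻¹ * φ v := by
        rw [mul_inv_eq_iff_eq_mul, mul_assoc, h4, ← mul_assoc, inv_mul_cancel, one_mul]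
      calc h * S * h⁻¹ = (φ v * h⁻¹)⁻¹ * T * (φ v * h⁻¹) := by rw [hS]; group
        _ = (φ v)⁻¹ * (φ g₃ * T * (φ g₃)⁻¹) * φ v := by rw [h6]; group
        _ = S := by rw [hS, mul_inv_eq_iff_eq_mul.2 (hcm _ hg₃).eq]
    have hSi : S⁻¹ = S := by rw [hS]; simp only [mul_inv_rev, inv_inv, hTi, mul_assoc]
    clear_value S
    have hPT : (φ P)⁻¹ * T = T * (φ P)⁻¹ := ((hcm _ hP).inv_left).eq
    calc S * h * u * (S * h)⁻¹
        = S * ((h * φ P * h⁻¹) * (h * T * h⁻¹) * (h * S * h⁻¹)) * S⁻¹ := by rw [hu]; group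
      _ = S * ((φ P)⁻¹ * T) := by rw [h1, h2, h3]; group
      _ = S * (T * (φ P)⁻¹) := by rw [hPT]
      _ = u⁻¹ := by rw [hu, mul_inv_rev, mul_inv_rev, hSi, hTi]

end Cfsg.Agent.Lib.J4Schur53
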