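import Cfsg.Agent.Lib.J4Schur53.Bound
import Cfsg.Agent.Lib.J4Schur53.NeOne
import Cfsg.Agent.Lib.J4Dce89.Bridge

/-!
The multiplier of the presented fourth Janko group is trivial, given only its order.
-/

set_option autoImplicit false

namespace Cfsg.Agent.Lib.J4Schur53

open Cfsg Cfsg.Agent.Lib

theorem hasCyclicSchurMultiplier_of_card [Finite J] (hcard : Nat.card J = 86775571046077562880) :
    HasCyclicSchurMultiplier Spor.J4 1 := by
  obtain ⟨h1, h2, h3, h4, h5, h6, h7⟩ := rels_J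
  obtain ⟨ht, htW, htx, h11, h12⟩ := rels_t
  obtain ⟨e, he, hu⟩ := J4Dce89.exists_e (x := jx) (y := jy) (t := jt) ⟨h1, h2, h3, h4, h5, h6, h7⟩
    (by rw [← pow_two]; exact ht) htx.symm htW.symm h11 h12
  exact hasCyclicSchurMultiplier_J4 bound24 hcard (e := e) he.sq he.comm he.conj_x he.conj_y hu.symm ju_ne_one

end Cfsg.Agent.Lib.J4Schur53
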